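import Cfsg.Agent.Lib.Spor.MTwelveAmal.WordRels
import Cfsg.Agent.Lib.Spor.MTwelveAmal.CertPar
import Cfsg.Agent.Lib.Spor.MTwelveAmal.CertOne
import Cfsg.Agent.Lib.Spor.MTwelveAmal.CertOneP
import Cfsg.Agent.Lib.Spor.MTwelveAmal.CertPOne
import Cfsg.Agent.Lib.Spor.MTwelveAmal.CertPP

/-!
Order bounds for groups generated by the amalgam generators, in the four sign cases.
-/

set_option autoImplicit false

namespace Cfsg.Agent.MTwelveAmal

open Cfsg.Agent.Spor.PC

variable {G : Type*} [Group G] {X : Gens G}

/-- the table of inverse letters -/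
def ivTab : List ℕ := [1, 0, 3, 2, 5, 4, 6, 7, 9, 8, 11, 10, 12, 13, 14, 15]

theorem iv_gl (h : X.Rels) : ∀ k, k < 16 → gl X (ivTab.getD k 0) = (gl X k)⁻¹ := by
  intro k hk
  interval_cases k <;> simp [ivTab, gl, Gens.p_inv h, Gens.q_inv h]

theorem iv_gl' (h : X.Rels) {iw : ℕ} (e : (List.range 16).map (ivL iw) = ivTab) :
    ∀ k, k < 16 → gl X (ivL iw k) = (gl X k)⁻¹ := by
  intro k hk
  rw [← iv_gl h k hk, ← e]
  simp [hk]

theorem cancel (h : X.Rels) (x y : ℕ) (e : x < 16 ∧ ivTab.getD y 0 = x ∧ y < 16) : wev X [x, y] = 1 := by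
  obtain ⟨_, e, hy⟩ := e
  subst e
  simp only [wev, List.map_cons, List.map_nil, List.prod_cons, List.prod_nil, mul_one, iv_gl h y hy, inv_mul_cancel]

theorem words_hyp {D : Data} {L : List (List ℕ)} (H : Subgroup G) (hnr : D.nr ≤ D.nw)
    (hL : ((List.range D.nw).map fun k => wDecode (fld D.words 512 k)) = L)
    (hrel : ∀ l ∈ L.take D.nr, wev X l = 1) (hsub : ∀ l ∈ L.drop D.nr, wev X l ∈ H) :
    ∀ k, k < D.nw → (k < D.nr → ((wDecode (fld D.words 512 k)).map (gl X)).prod = 1) ∧
      ((wDecode (fld D.words 512 k)).map (gl X)).prod ∈ H := by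
  subst hL
  intro k hk
  have h1 : k < D.nr → wev X (wDecode (fld D.words 512 k)) = 1 := fun hk' => hrel _ (by
    rw [← List.map_take, List.take_range, Nat.min_eq_left hnr]
    exact List.mem_map.2 ⟨k, List.mem_range.2 hk', rfl⟩)
  refine ⟨h1, ?_⟩
  by_cases hk' : k < D.nr
  · show wev X _ ∈ H
    rw [h1 hk']; exact one_mem H
  · refine hsub _ (List.mem_iff_getElem.2 ⟨k - D.nr, by simp; omega, ?_⟩)
    simp [Nat.add_sub_cancel' (Nat.le_of_not_lt hk')]

theorem mem_moves {D : Data} {N : ℕ} (hne : D.ne = N)
    (h : ((List.range D.ne).map fun k => wDecode (fld D.words 512 (D.nw + k))) =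
      (List.range N).map fun k => [k]) {k : ℕ} (hk : k < N) : gl X k ∈ moves D (gl X) := by
  refine ⟨k, hne.symm ▸ hk, ?_⟩
  have := congrArg (fun l : List (List ℕ) => l.getD k []) h
  simp [hne, hk] at this
  simp [this]

theorem parA_eq_closure : X.parA = Subgroup.closure {X.a, X.b, X.c, X.p, X.q, X.n} := by
  refine le_antisymm ((Subgroup.closure_le _).2 ?_) ((Subgroup.closure_le _).2 ?_)
  · rintro x (rfl | rfl | rfl | rfl | rfl | rfl) <;>
      first
      | (apply Subgroup.subset_closure; simp; done)
      | (have e : X.d = X.a * X.n⁻¹ * X.a := by rw [Gens.n]; group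
         rw [e]
         exact mul_mem (mul_mem (Subgroup.subset_closure (by simp)) (inv_mem (Subgroup.subset_closure (by simp))))
           (Subgroup.subset_closure (by simp)))
  · rintro x (rfl | rfl | rfl | rfl | rfl | rfl) <;>
      first
      | (apply Subgroup.subset_closure; simp; done)
      | exact mul_mem (mul_mem (Subgroup.subset_closure (by simp)) (inv_mem (Subgroup.subset_closure (by simp))))
          (Subgroup.subset_closure (by simp))

theorem top_eq_closure (htop : Subgroup.closure {X.a, X.b, X.c, X.d, X.e, X.p, X.q} = ⊤) :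
    Subgroup.closure {X.a, X.b, X.c, X.p, X.q, X.n, X.m} = (⊤ : Subgroup G) := by
  rw [eq_top_iff, ← htop, Subgroup.closure_le]
  rintro x (rfl | rfl | rfl | rfl | rfl | rfl | rfl) <;>
    first
    | (apply Subgroup.subset_closure; simp; done)
    | (have e : X.d = X.a * X.n⁻¹ * X.a := by rw [Gens.n]; group
       rw [e]
       exact mul_mem (mul_mem (Subgroup.subset_closure (by simp)) (inv_mem (Subgroup.subset_closure (by simp))))
         (Subgroup.subset_closure (by simp)))
    | (have e : X.e = X.b * X.m⁻¹ * X.b := by rw [Gens.m]; group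
       rw [e]
       exact mul_mem (mul_mem (Subgroup.subset_closure (by simp)) (inv_mem (Subgroup.subset_closure (by simp))))
         (Subgroup.subset_closure (by simp)))

theorem parA_bound (h : X.Rels) : Finite X.parA ∧ Nat.card X.parA ≤ 432 := by
  have hrel : ∀ l ∈ CertPar.wordList.take 30, wev X l = 1 := by
    intro l hl
    simp only [List.take, List.mem_cons, List.not_mem_nil, or_false, CertPar.wordList] at hl
    rcases hl with rfl | rfl | rfl | rfl | rfl | rfl | rfl | rfl | rfl | rfl | rfl | rfl | rfl | rfl | rfl | rfl | rfl | rfl | rfl | rfl | rfl | rfl | rfl | rfl | rfl | rfl | rfl | rfl | rfl | rfl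
    · exact cancel h 1 0 (by decide)
    · exact cancel h 0 1 (by decide)
    · exact cancel h 3 2 (by decide)
    · exact cancel h 2 3 (by decide)
    · exact cancel h 5 4 (by decide)
    · exact cancel h 4 5 (by decide)
    · exact cancel h 6 6 (by decide)
    · exact cancel h 7 7 (by decide)
    · exact cancel h 9 8 (by decide)
    · exact cancel h 8 9 (by decide)
    · exact w0 h
    · exact w1 h
    · exact w2 h
    · exact w3 h
    · exact w5 h
    · exact w6 h
    · exact w7 h
    · exact w8 h
    · exact w9 h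
    · exact w10 h
    · exact w11 h
    · exact w12 h
    · exact w13 h
    · exact w14 h
    · exact w15 h
    · exact w16 h
    · exact w19 h
    · exact w20 h
    · exact w21 h
    · exact w22 h

  have H := card_le CertPar.checked (gl X) (⊥ : Subgroup G) (iv_gl' h (by decide +kernel)) rfl
    (words_hyp (D := CertPar.dat) ⊥ le_rfl CertPar.words_ok hrel (fun l hl => by simp [CertPar.wordList, CertPar.dat] at hl))
    X.parA _ parA_eq_closure.symm ?_
  · rw [Subgroup.card_bot, mul_one] at H
    exact H
  · have mv := fun {k : ℕ} (hk : k < 10) => mem_moves (X := X) (D := CertPar.dat) rfl CertPar.moves_ok hk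
    rintro z (rfl | rfl | rfl | rfl | rfl | rfl)
    · exact ⟨mv (k := 0) (by decide), mv (k := 1) (by decide)⟩
    · exact ⟨mv (k := 2) (by decide), mv (k := 3) (by decide)⟩
    · exact ⟨mv (k := 4) (by decide), mv (k := 5) (by decide)⟩
    · exact ⟨mv (k := 6) (by decide), (Gens.p_inv h).symm ▸ mv (k := 6) (by decide)⟩
    · exact ⟨mv (k := 7) (by decide), (Gens.q_inv h).symm ▸ mv (k := 7) (by decide)⟩
    · exact ⟨mv (k := 8) (by decide), mv (k := 9) (by decide)⟩

theorem boundOne (h : X.Rels) (e1 : (X.a * X.n * X.k) ^ 3 = 1) (e2 : (X.a⁻¹ * X.k * X.n) ^ 3 = 1)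
    (htop : Subgroup.closure {X.a, X.b, X.c, X.d, X.e, X.p, X.q} = ⊤) :
    Finite G ∧ Nat.card G ≤ 220 * 432 := by
  obtain ⟨hfA, hA⟩ := parA_bound h
  have hrel : ∀ l ∈ CertOne.wordList.take 41, wev X l = 1 := by
    intro l hl
    simp only [List.take, List.mem_cons, List.not_mem_nil, or_false, CertOne.wordList] at hl
    rcases hl with rfl | rfl | rfl | rfl | rfl | rfl | rfl | rfl | rfl | rfl | rfl | rfl | rfl | rfl | rfl | rfl | rfl | rfl | rfl | rfl | rfl | rfl | rfl | rfl | rfl | rfl | rfl | rfl | rfl | rfl | rfl | rfl | rfl | rfl | rfl | rfl | rfl | rfl | rfl | rfl | rfl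
    · exact cancel h 11 10 (by decide)
    · exact cancel h 10 11 (by decide)
    · exact cancel h 9 8 (by decide)
    · exact cancel h 8 9 (by decide)
    · exact cancel h 1 0 (by decide)
    · exact cancel h 0 1 (by decide)
    · exact cancel h 3 2 (by decide)
    · exact cancel h 2 3 (by decide)
    · exact cancel h 5 4 (by decide)
    · exact cancel h 4 5 (by decide)
    · exact cancel h 7 7 (by decide)
    · exact cancel h 6 6 (by decide)
    · exact w0 h
    · exact w1 h
    · exact w2 h
    · exact w3 h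
    · exact w4 h
    · exact w5 h
    · exact w6 h
    · exact w7 h
    · exact w8 h
    · exact w9 h
    · exact w10 h
    · exact w11 h
    · exact w12 h
    · exact w13 h
    · exact w14 h
    · exact w15 h
    · exact w16 h
    · exact w17 h
    · exact w18 h
    · exact w19 h
    · exact w20 h
    · exact w21 h
    · exact w22 h
    · exact w23 h
    · exact w24 h
    · exact w25 h
    · exact w26 h
    · exact x1_one h e1
    · exact x2_one h e2

  have hsub : ∀ l ∈ CertOne.wordList.drop 41, wev X l ∈ X.parA := by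
    intro l hl
    simp only [List.drop, List.mem_cons, List.not_mem_nil, or_false, CertOne.wordList] at hl
    have hd : X.a * X.n⁻¹ * X.a = X.d := by rw [Gens.n]; group
    rcases hl with rfl | rfl | rfl | rfl | rfl | rfl
    all_goals simp only [wev, gl, List.map_cons, List.map_nil, List.prod_cons, List.prod_nil, mul_one]
    all_goals first
      | (apply Subgroup.subset_closure; simp; done)
      | (rw [← mul_assoc, hd]; exact Subgroup.subset_closure (by simp))
  have hmv : ∀ z ∈ ({X.a, X.b, X.c, X.p, X.q, X.n, X.m} : Set G),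
      z ∈ moves CertOne.dat (gl X) ∧ z⁻¹ ∈ moves CertOne.dat (gl X) := by
    have mv := fun {k : ℕ} (hk : k < 12) => mem_moves (X := X) (D := CertOne.dat) rfl CertOne.moves_ok hk
    rintro z (rfl | rfl | rfl | rfl | rfl | rfl | rfl)
    · exact ⟨mv (k := 0) (by decide), mv (k := 1) (by decide)⟩
    · exact ⟨mv (k := 2) (by decide), mv (k := 3) (by decide)⟩
    · exact ⟨mv (k := 4) (by decide), mv (k := 5) (by decide)⟩
    · exact ⟨mv (k := 6) (by decide), (Gens.p_inv h).symm ▸ mv (k := 6) (by decide)⟩
    · exact ⟨mv (k := 7) (by decide), (Gens.q_inv h).symm ▸ mv (k := 7) (by decide)⟩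
    · exact ⟨mv (k := 8) (by decide), mv (k := 9) (by decide)⟩
    · exact ⟨mv (k := 10) (by decide), mv (k := 11) (by decide)⟩
  have hyp := words_hyp (D := CertOne.dat) X.parA (by decide) CertOne.words_ok hrel hsub
  obtain ⟨hf, hle⟩ := card_le CertOne.checked (gl X) X.parA (iv_gl' h (by decide +kernel)) rfl hyp ⊤ _
    (top_eq_closure htop) hmv
  haveI : Finite G := Finite.of_equiv _ Subgroup.topEquiv.toEquiv
  rw [Subgroup.card_top, show CertOne.dat.nn = 220 from rfl] at hle
  refine ⟨this, hle.trans (Nat.mul_le_mul_left _ hA)⟩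


theorem boundOneP (h : X.Rels) (e1 : (X.a * X.n * X.k) ^ 3 = 1) (e2 : (X.a⁻¹ * X.k * X.n) ^ 3 = X.p)
    (htop : Subgroup.closure {X.a, X.b, X.c, X.d, X.e, X.p, X.q} = ⊤) :
    Finite G ∧ Nat.card G ≤ 1 * 432 ∧ X.parA = ⊤ := by
  obtain ⟨hfA, hA⟩ := parA_bound h
  have hrel : ∀ l ∈ CertOneP.wordList.take 41, wev X l = 1 := by
    intro l hl
    simp only [List.take, List.mem_cons, List.not_mem_nil, or_false, CertOneP.wordList] at hl
    rcases hl with rfl | rfl | rfl | rfl | rfl | rfl | rfl | rfl | rfl | rfl | rfl | rfl | rfl | rfl | rfl | rfl | rfl | rfl | rfl | rfl | rfl | rfl | rfl | rfl | rfl | rfl | rfl | rfl | rfl | rfl | rfl | rfl | rfl | rfl | rfl | rfl | rfl | rfl | rfl | rfl | rfl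
    · exact cancel h 11 10 (by decide)
    · exact cancel h 10 11 (by decide)
    · exact cancel h 6 6 (by decide)
    · exact cancel h 1 0 (by decide)
    · exact cancel h 0 1 (by decide)
    · exact cancel h 9 8 (by decide)
    · exact cancel h 8 9 (by decide)
    · exact cancel h 7 7 (by decide)
    · exact cancel h 5 4 (by decide)
    · exact cancel h 4 5 (by decide)
    · exact cancel h 3 2 (by decide)
    · exact cancel h 2 3 (by decide)
    · exact w0 h
    · exact w1 h
    · exact w2 h
    · exact w3 h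
    · exact w4 h
    · exact w5 h
    · exact w6 h
    · exact w7 h
    · exact w8 h
    · exact w9 h
    · exact w10 h
    · exact w11 h
    · exact w12 h
    · exact w13 h
    · exact w14 h
    · exact w15 h
    · exact w16 h
    · exact w17 h
    · exact w18 h
    · exact w19 h
    · exact w20 h
    · exact w21 h
    · exact w22 h
    · exact w23 h
    · exact w24 h
    · exact w25 h
    · exact w26 h
    · exact x1_one h e1
    · exact x2_p h e2

  have hsub : ∀ l ∈ CertOneP.wordList.drop 41, wev X l ∈ X.parA := by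
    intro l hl
    simp only [List.drop, List.mem_cons, List.not_mem_nil, or_false, CertOneP.wordList] at hl
    have hd : X.a * X.n⁻¹ * X.a = X.d := by rw [Gens.n]; group
    rcases hl with rfl | rfl | rfl | rfl | rfl | rfl
    all_goals simp only [wev, gl, List.map_cons, List.map_nil, List.prod_cons, List.prod_nil, mul_one]
    all_goals first
      | (apply Subgroup.subset_closure; simp; done)
      | (rw [← mul_assoc, hd]; exact Subgroup.subset_closure (by simp))
  have hmv : ∀ z ∈ ({X.a, X.b, X.c, X.p, X.q, X.n, X.m} : Set G),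
      z ∈ moves CertOneP.dat (gl X) ∧ z⁻¹ ∈ moves CertOneP.dat (gl X) := by
    have mv := fun {k : ℕ} (hk : k < 12) => mem_moves (X := X) (D := CertOneP.dat) rfl CertOneP.moves_ok hk
    rintro z (rfl | rfl | rfl | rfl | rfl | rfl | rfl)
    · exact ⟨mv (k := 0) (by decide), mv (k := 1) (by decide)⟩
    · exact ⟨mv (k := 2) (by decide), mv (k := 3) (by decide)⟩
    · exact ⟨mv (k := 4) (by decide), mv (k := 5) (by decide)⟩
    · exact ⟨mv (k := 6) (by decide), (Gens.p_inv h).symm ▸ mv (k := 6) (by decide)⟩
    · exact ⟨mv (k := 7) (by decide), (Gens.q_inv h).symm ▸ mv (k := 7) (by decide)⟩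
    · exact ⟨mv (k := 8) (by decide), mv (k := 9) (by decide)⟩
    · exact ⟨mv (k := 10) (by decide), mv (k := 11) (by decide)⟩
  have hyp := words_hyp (D := CertOneP.dat) X.parA (by decide) CertOneP.words_ok hrel hsub
  obtain ⟨hf, hle⟩ := card_le CertOneP.checked (gl X) X.parA (iv_gl' h (by decide +kernel)) rfl hyp ⊤ _
    (top_eq_closure htop) hmv
  haveI : Finite G := Finite.of_equiv _ Subgroup.topEquiv.toEquiv
  rw [Subgroup.card_top, show CertOneP.dat.nn = 1 from rfl] at hle
  refine ⟨this, hle.trans (Nat.mul_le_mul_left _ hA), ?_⟩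
  exact Subgroup.eq_top_of_le_card _ (by simpa using hle)

theorem boundPOne (h : X.Rels) (e1 : (X.a * X.n * X.k) ^ 3 = X.p) (e2 : (X.a⁻¹ * X.k * X.n) ^ 3 = 1)
    (htop : Subgroup.closure {X.a, X.b, X.c, X.d, X.e, X.p, X.q} = ⊤) :
    Finite G ∧ Nat.card G ≤ 1 * 432 ∧ X.parA = ⊤ := by
  obtain ⟨hfA, hA⟩ := parA_bound h
  have hrel : ∀ l ∈ CertPOne.wordList.take 41, wev X l = 1 := by
    intro l hl
    simp only [List.take, List.mem_cons, List.not_mem_nil, or_false, CertPOne.wordList] at hl
    rcases hl with rfl | rfl | rfl | rfl | rfl | rfl | rfl | rfl | rfl | rfl | rfl | rfl | rfl | rfl | rfl | rfl | rfl | rfl | rfl | rfl | rfl | rfl | rfl | rfl | rfl | rfl | rfl | rfl | rfl | rfl | rfl | rfl | rfl | rfl | rfl | rfl | rfl | rfl | rfl | rfl | rfl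
    · exact cancel h 11 10 (by decide)
    · exact cancel h 10 11 (by decide)
    · exact cancel h 6 6 (by decide)
    · exact cancel h 1 0 (by decide)
    · exact cancel h 0 1 (by decide)
    · exact cancel h 9 8 (by decide)
    · exact cancel h 8 9 (by decide)
    · exact cancel h 7 7 (by decide)
    · exact cancel h 5 4 (by decide)
    · exact cancel h 4 5 (by decide)
    · exact cancel h 3 2 (by decide)
    · exact cancel h 2 3 (by decide)
    · exact w0 h
    · exact w1 h
    · exact w2 h
    · exact w3 h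
    · exact w4 h
    · exact w5 h
    · exact w6 h
    · exact w7 h
    · exact w8 h
    · exact w9 h
    · exact w10 h
    · exact w11 h
    · exact w12 h
    · exact w13 h
    · exact w14 h
    · exact w15 h
    · exact w16 h
    · exact w17 h
    · exact w18 h
    · exact w19 h
    · exact w20 h
    · exact w21 h
    · exact w22 h
    · exact w23 h
    · exact w24 h
    · exact w25 h
    · exact w26 h
    · exact x1_p h e1
    · exact x2_one h e2

  have hsub : ∀ l ∈ CertPOne.wordList.drop 41, wev X l ∈ X.parA := by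
    intro l hl
    simp only [List.drop, List.mem_cons, List.not_mem_nil, or_false, CertPOne.wordList] at hl
    have hd : X.a * X.n⁻¹ * X.a = X.d := by rw [Gens.n]; group
    rcases hl with rfl | rfl | rfl | rfl | rfl | rfl
    all_goals simp only [wev, gl, List.map_cons, List.map_nil, List.prod_cons, List.prod_nil, mul_one]
    all_goals first
      | (apply Subgroup.subset_closure; simp; done)
      | (rw [← mul_assoc, hd]; exact Subgroup.subset_closure (by simp))
  have hmv : ∀ z ∈ ({X.a, X.b, X.c, X.p, X.q, X.n, X.m} : Set G),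
      z ∈ moves CertPOne.dat (gl X) ∧ z⁻¹ ∈ moves CertPOne.dat (gl X) := by
    have mv := fun {k : ℕ} (hk : k < 12) => mem_moves (X := X) (D := CertPOne.dat) rfl CertPOne.moves_ok hk
    rintro z (rfl | rfl | rfl | rfl | rfl | rfl | rfl)
    · exact ⟨mv (k := 0) (by decide), mv (k := 1) (by decide)⟩
    · exact ⟨mv (k := 2) (by decide), mv (k := 3) (by decide)⟩
    · exact ⟨mv (k := 4) (by decide), mv (k := 5) (by decide)⟩
    · exact ⟨mv (k := 6) (by decide), (Gens.p_inv h).symm ▸ mv (k := 6) (by decide)⟩
    · exact ⟨mv (k := 7) (by decide), (Gens.q_inv h).symm ▸ mv (k := 7) (by decide)⟩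
    · exact ⟨mv (k := 8) (by decide), mv (k := 9) (by decide)⟩
    · exact ⟨mv (k := 10) (by decide), mv (k := 11) (by decide)⟩
  have hyp := words_hyp (D := CertPOne.dat) X.parA (by decide) CertPOne.words_ok hrel hsub
  obtain ⟨hf, hle⟩ := card_le CertPOne.checked (gl X) X.parA (iv_gl' h (by decide +kernel)) rfl hyp ⊤ _
    (top_eq_closure htop) hmv
  haveI : Finite G := Finite.of_equiv _ Subgroup.topEquiv.toEquiv
  rw [Subgroup.card_top, show CertPOne.dat.nn = 1 from rfl] at hle
  refine ⟨this, hle.trans (Nat.mul_le_mul_left _ hA), ?_⟩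
  exact Subgroup.eq_top_of_le_card _ (by simpa using hle)

theorem boundPP (h : X.Rels) (e1 : (X.a * X.n * X.k) ^ 3 = X.p) (e2 : (X.a⁻¹ * X.k * X.n) ^ 3 = X.p)
    (htop : Subgroup.closure {X.a, X.b, X.c, X.d, X.e, X.p, X.q} = ⊤) :
    Finite G ∧ Nat.card G ≤ 13 * 432 := by
  obtain ⟨hfA, hA⟩ := parA_bound h
  have hrel : ∀ l ∈ CertPP.wordList.take 41, wev X l = 1 := by
    intro l hl
    simp only [List.take, List.mem_cons, List.not_mem_nil, or_false, CertPP.wordList] at hl
    rcases hl with rfl | rfl | rfl | rfl | rfl | rfl | rfl | rfl | rfl | rfl | rfl | rfl | rfl | rfl | rfl | rfl | rfl | rfl | rfl | rfl | rfl | rfl | rfl | rfl | rfl | rfl | rfl | rfl | rfl | rfl | rfl | rfl | rfl | rfl | rfl | rfl | rfl | rfl | rfl | rfl | rfl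
    · exact cancel h 11 10 (by decide)
    · exact cancel h 10 11 (by decide)
    · exact cancel h 9 8 (by decide)
    · exact cancel h 8 9 (by decide)
    · exact cancel h 1 0 (by decide)
    · exact cancel h 0 1 (by decide)
    · exact cancel h 3 2 (by decide)
    · exact cancel h 2 3 (by decide)
    · exact cancel h 5 4 (by decide)
    · exact cancel h 4 5 (by decide)
    · exact cancel h 7 7 (by decide)
    · exact cancel h 6 6 (by decide)
    · exact w0 h
    · exact w1 h
    · exact w2 h
    · exact w3 h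
    · exact w4 h
    · exact w5 h
    · exact w6 h
    · exact w7 h
    · exact w8 h
    · exact w9 h
    · exact w10 h
    · exact w11 h
    · exact w12 h
    · exact w13 h
    · exact w14 h
    · exact w15 h
    · exact w16 h
    · exact w17 h
    · exact w18 h
    · exact w19 h
    · exact w20 h
    · exact w21 h
    · exact w22 h
    · exact w23 h
    · exact w24 h
    · exact w25 h
    · exact w26 h
    · exact x1_p h e1
    · exact x2_p h e2

  have hsub : ∀ l ∈ CertPP.wordList.drop 41, wev X l ∈ X.parA := by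
    intro l hl
    simp only [List.drop, List.mem_cons, List.not_mem_nil, or_false, CertPP.wordList] at hl
    have hd : X.a * X.n⁻¹ * X.a = X.d := by rw [Gens.n]; group
    rcases hl with rfl | rfl | rfl | rfl | rfl | rfl
    all_goals simp only [wev, gl, List.map_cons, List.map_nil, List.prod_cons, List.prod_nil, mul_one]
    all_goals first
      | (apply Subgroup.subset_closure; simp; done)
      | (rw [← mul_assoc, hd]; exact Subgroup.subset_closure (by simp))
  have hmv : ∀ z ∈ ({X.a, X.b, X.c, X.p, X.q, X.n, X.m} : Set G),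
      z ∈ moves CertPP.dat (gl X) ∧ z⁻¹ ∈ moves CertPP.dat (gl X) := by
    have mv := fun {k : ℕ} (hk : k < 12) => mem_moves (X := X) (D := CertPP.dat) rfl CertPP.moves_ok hk
    rintro z (rfl | rfl | rfl | rfl | rfl | rfl | rfl)
    · exact ⟨mv (k := 0) (by decide), mv (k := 1) (by decide)⟩
    · exact ⟨mv (k := 2) (by decide), mv (k := 3) (by decide)⟩
    · exact ⟨mv (k := 4) (by decide), mv (k := 5) (by decide)⟩
    · exact ⟨mv (k := 6) (by decide), (Gens.p_inv h).symm ▸ mv (k := 6) (by decide)⟩
    · exact ⟨mv (k := 7) (by decide), (Gens.q_inv h).symm ▸ mv (k := 7) (by decide)⟩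
    · exact ⟨mv (k := 8) (by decide), mv (k := 9) (by decide)⟩
    · exact ⟨mv (k := 10) (by decide), mv (k := 11) (by decide)⟩
  have hyp := words_hyp (D := CertPP.dat) X.parA (by decide) CertPP.words_ok hrel hsub
  obtain ⟨hf, hle⟩ := card_le CertPP.checked (gl X) X.parA (iv_gl' h (by decide +kernel)) rfl hyp ⊤ _
    (top_eq_closure htop) hmv
  haveI : Finite G := Finite.of_equiv _ Subgroup.topEquiv.toEquiv
  rw [Subgroup.card_top, show CertPP.dat.nn = 13 from rfl] at hle
  refine ⟨this, hle.trans (Nat.mul_le_mul_left _ hA)⟩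


end Cfsg.Agent.MTwelveAmal
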