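import Cfsg.Agent.Lib.Spor.MTwelveAmal.Words
import Cfsg.Agent.Lib.Lie.OddGraphPSL2
import Cfsg.Agent.S3331

/-!
The centraliser of `p` gives two further relations: modulo `p` it has a self-centralising element of
order three, and the quaternion elements `n`, `k` lie in the normal subgroup of order prime to three.
-/

set_option autoImplicit false

namespace Cfsg.Agent.MTwelveAmal

/-- if commuting with an involution forces exponent two, a braid pair inverted by a common element has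
trivial square root -/
theorem braid_trivial {Q : Type*} [Group Q] {α δ s : Q}
    (hQ : ∀ x y : Q, x ^ 2 = 1 → x ≠ 1 → x * y = y * x → y ^ 2 = 1)
    (hα : α ^ 3 = 1) (hα1 : α ≠ 1)
    (hb : α * δ⁻¹ * α = δ⁻¹ * α * δ⁻¹) (hn : (α * δ⁻¹ * α) ^ 2 = 1) (hs : s ^ 2 = 1)
    (hsα : s * α * s = α⁻¹) (hsδ : s * δ * s = δ⁻¹) : α * δ⁻¹ * α = 1 := by
  by_contra hn1
  set n := α * δ⁻¹ * α with hndef
  set v := δ⁻¹ with hv
  have hnn : n * n = 1 := by rw [← pow_two]; exact hn
  have hni : n⁻¹ = n := inv_eq_of_mul_eq_one_right hnn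
  have hss : s * s = 1 := by rw [← pow_two]; exact hs
  have hnα : n * α = v * n := by
    calc n * α = v * α * v * α := by rw [← hb]
      _ = v * n := by rw [hndef]; group
  have hsv : s * v * s = v⁻¹ := by
    have h1 : (s * δ * s)⁻¹ = (δ⁻¹)⁻¹ := by rw [hsδ]
    rw [mul_inv_rev, mul_inv_rev, inv_eq_of_mul_eq_one_right hss, ← mul_assoc] at h1
    rw [hv]; exact h1
  have hsn : s * n * s = n := by
    have e : s * n * s = (s * α * s) * (s * v * s) * (s * α * s) := by
      rw [hndef]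
      calc s * (α * v * α) * s = s * α * 1 * v * 1 * α * s := by group
        _ = _ := by rw [← hss]; group
    rw [e, hsα, hsv]
    calc α⁻¹ * v⁻¹ * α⁻¹ = n⁻¹ := by rw [hndef]; group
      _ = n := hni
  have hns : n * s = s * n := by
    have := congrArg (· * s) hsn
    simp only [mul_assoc, hss, mul_one] at this
    exact this.symm
  set n' := α⁻¹ * n * α with hn'
  have hn'v : n' = v * α⁻¹ * (α * α⁻¹) := by
    rw [hn', mul_assoc, hnα, mul_inv_cancel, mul_one]
    calc α⁻¹ * (v * n) = α⁻¹ * (v * (α * v * α)) := by rw [← hndef]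
      _ = α⁻¹ * (v * α * v) * α := by group
      _ = α⁻¹ * n * α := by rw [← hb]
      _ = α⁻¹ * (α * v * α) * α := by rw [← hndef]
      _ = v * (α * α * α) * α⁻¹ := by group
      _ = v * α⁻¹ := by rw [show α * α * α = α ^ 3 by rw [pow_succ, pow_two], hα, mul_one]
  rw [mul_inv_cancel, mul_one] at hn'v
  have hn'2 : n' * n' = 1 := by
    calc n' * n' = α⁻¹ * (n * n) * α := by rw [hn']; group
      _ = 1 := by rw [hnn]; group
  have hnvn : n * v = α * n := by
    have := congrArg (fun x => n * x * n) hnα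
    simp only [← mul_assoc, hnn, one_mul] at this
    rw [mul_assoc (n * v), hnn, mul_one] at this
    exact this.symm
  have hcomm : n * n' = n' * n := by
    have h1 : n * n' * n = n' := by
      rw [hn'v]
      calc n * (v * α⁻¹) * n = (n * v) * (n⁻¹ * α)⁻¹ := by group
        _ = α * (n * (n⁻¹ * α)⁻¹) := by rw [hnvn, mul_assoc]
        _ = α * (n * α⁻¹ * n) := by group
        _ = α * (n⁻¹ * α⁻¹ * n⁻¹) := by rw [hni]
        _ = α * (n * α * n)⁻¹ := by group
        _ = α * (v * n * n)⁻¹ := by rw [hnα]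
        _ = (v * α⁻¹)⁻¹ := by rw [mul_assoc v, hnn, mul_one]; group
        _ = v * α⁻¹ := by
          rw [inv_eq_iff_mul_eq_one, ← hn'v]; exact hn'2
    calc n * n' = n * n' * (n * n) := by rw [hnn, mul_one]
      _ = n' * n := by rw [← mul_assoc, h1]
  have hx : (s * n') ^ 2 = 1 := hQ n _ hn hn1 (by
    calc n * (s * n') = (n * s) * n' := by group
      _ = s * (n * n') := by rw [hns]; group
      _ = (s * n') * n := by rw [hcomm]; group)
  have h3 : s * n' * s = n' := by
    rw [pow_two] at hx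
    calc s * n' * s = (s * n' * (s * n')) * n'⁻¹ := by group
      _ = n' := by rw [hx, one_mul, inv_eq_of_mul_eq_one_right hn'2]
  have h4 : α * n * α⁻¹ = α⁻¹ * n * α := by
    have e : s * n' * s = (s * α * s)⁻¹ * (s * n * s) * (s * α * s) := by
      rw [hn', mul_inv_rev, mul_inv_rev, inv_eq_of_mul_eq_one_right hss]
      calc s * (α⁻¹ * n * α) * s = s * α⁻¹ * 1 * n * 1 * α * s := by group
        _ = _ := by rw [← hss]; group
    rw [h3, hsα, hsn, inv_inv] at e
    exact e.symm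
  have h5 : n * α = α * n := by
    have : α * α * n = n * (α * α) := by
      calc α * α * n = α * (α * n * α⁻¹) * α := by group
        _ = α * (α⁻¹ * n * α) * α := by rw [h4]
        _ = n * (α * α) := by group
    have ha : α * α = α⁻¹ := eq_inv_of_mul_eq_one_left (by rw [← hα, pow_succ, pow_two])
    rw [ha] at this
    calc n * α = α * (α⁻¹ * n) * α := by group
      _ = α * n * (α⁻¹ * α) := by rw [this]; group
      _ = α * n := by rw [inv_mul_cancel, mul_one]
  exact hα1 (by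
    have := hQ n α hn hn1 h5
    rw [show α ^ 3 = α ^ 2 * α from pow_succ α 2, this, one_mul] at hα
    exact hα)

theorem comm_exp_two_S3 : ∀ x y : Equiv.Perm (Fin 3), x ^ 2 = 1 → x ≠ 1 → x * y = y * x → y ^ 2 = 1 := by
  decide

theorem comm_exp_two_perm5 : ∀ x y : Equiv.Perm (Fin 5), Equiv.Perm.sign x = 1 → Equiv.Perm.sign y = 1 →
    x * x = 1 → x ≠ 1 → x * y = y * x → y * y = 1 := by
  decide +kernel

theorem comm_exp_two_A5 : ∀ x y : alternatingGroup (Fin 5), x ^ 2 = 1 → x ≠ 1 → x * y = y * x → y ^ 2 = 1 := by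
  intro x y hx hx1 hc
  rw [pow_two] at hx ⊢
  apply Subtype.ext
  exact comm_exp_two_perm5 x y (Equiv.Perm.mem_alternatingGroup.1 x.2) (Equiv.Perm.mem_alternatingGroup.1 y.2)
    (congrArg Subtype.val hx) (fun e => hx1 (Subtype.ext e)) (congrArg Subtype.val hc)

theorem comm_exp_two_of_card_three {Q : Type*} [Group Q] (h : Nat.card Q = 3) :
    ∀ x y : Q, x ^ 2 = 1 → x ≠ 1 → x * y = y * x → y ^ 2 = 1 := by
  intro x y hx hx1 _
  refine absurd ?_ hx1
  have h3 : x ^ 3 = 1 := h ▸ pow_card_eq_one'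
  rwa [pow_succ, hx, one_mul] at h3

theorem comm_exp_two_transfer {Q R : Type*} [Group Q] [Group R] (e : Q ≃* R)
    (h : ∀ x y : R, x ^ 2 = 1 → x ≠ 1 → x * y = y * x → y ^ 2 = 1) :
    ∀ x y : Q, x ^ 2 = 1 → x ≠ 1 → x * y = y * x → y ^ 2 = 1 := by
  intro x y hx hx1 hc
  apply e.injective
  rw [map_pow, map_one]
  exact h (e x) (e y) (by rw [← map_pow, hx, map_one]) (by simpa using hx1) (by rw [← map_mul, hc, map_mul])

/-- an element acting without fixed points on a normal subgroup has conjugate coset -/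
theorem coset_pow_three {M : Type*} [Group M] [Finite M] (N : Subgroup M) [N.Normal] {α : M}
    (hα : α ^ 3 = 1) (hfix : ∀ z ∈ N, z * α = α * z → z = 1) {y : M} (hy : y ∈ N) :
    (α * y) ^ 3 = 1 := by
  let φ : N → N := fun z => ⟨α⁻¹ * (z : M)⁻¹ * α * z, by
    have := Subgroup.Normal.conj_mem ‹N.Normal› _ (inv_mem z.2) α⁻¹
    rw [inv_inv] at this
    exact mul_mem this z.2⟩
  have hinj : Function.Injective φ := by
    intro z w hzw
    have h1 : α⁻¹ * (z : M)⁻¹ * α * z = α⁻¹ * (w : M)⁻¹ * α * w := congrArg Subtype.val hzw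
    have h2 : ((w : M) * (z : M)⁻¹) * α = α * ((w : M) * (z : M)⁻¹) := by
      calc ((w : M) * (z : M)⁻¹) * α = w * α * (α⁻¹ * (z : M)⁻¹ * α * z) * (z : M)⁻¹ := by group
        _ = w * α * (α⁻¹ * (w : M)⁻¹ * α * w) * (z : M)⁻¹ := by rw [h1]
        _ = α * ((w : M) * (z : M)⁻¹) := by group
    exact Subtype.ext (mul_inv_eq_one.1 (hfix _ (mul_mem w.2 (inv_mem z.2)) h2)).symm
  obtain ⟨z, hz⟩ := (Finite.injective_iff_surjective.1 hinj) ⟨y, hy⟩
  have hzy : α⁻¹ * (z : M)⁻¹ * α * z = y := congrArg Subtype.val hz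
  calc (α * y) ^ 3 = ((z : M)⁻¹ * α * z) ^ 3 := by rw [← hzy]; congr 1; group
    _ = (z : M)⁻¹ * α ^ 3 * z := by
      rw [pow_succ, pow_two, pow_succ, pow_two]; group
    _ = 1 := by rw [hα]; group

open Gens in
/-- the two additional relations -/
theorem extra_rels {G : Type*} [Group G] [Finite G] {A B : Subgroup G} (D : Amalgam A B) :
    (D.X.a * D.X.n * D.X.k) ^ 3 ∈ Subgroup.zpowers D.X.p ∧
      (D.X.a⁻¹ * D.X.k * D.X.n) ^ 3 ∈ Subgroup.zpowers D.X.p := by
  obtain ⟨X, h, hc1, -, -, -, hcr⟩ := D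
  show (X.a * X.n * X.k) ^ 3 ∈ _ ∧ (X.a⁻¹ * X.k * X.n) ^ 3 ∈ _
  have ha1 : X.a ≠ 1 := fun e => hc1 (by rw [← h.ab, e]; group)
  have hqn : X.q * X.n * X.q = X.n⁻¹ := by rw [← cj_q_eq h]; exact cj_q_n h
  -- `p` is an involution
  have hp1 : X.p ≠ 1 := fun e => by
    have h1 : X.c = X.c⁻¹ := by rw [← h.pc, e, one_mul, mul_one]
    have h2 : X.c * X.c = 1 := by nth_rw 1 [h1]; exact inv_mul_cancel _
    have h3 := h.c3
    rw [pow_succ, pow_two, h2, one_mul] at h3
    exact hc1 h3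
  have oa : orderOf X.a = 3 := orderOf_eq_prime (p := 3) h.a3 ha1
  have op : orderOf X.p = 2 := orderOf_eq_prime h.p2 hp1
  have hap : Commute X.a X.p := (comm_of_conj_p h h.pa).symm
  set Cp := Subgroup.centralizer ({X.p} : Set G) with hCp
  have memC : ∀ {x : G}, X.p * x = x * X.p → x ∈ Cp := fun hx =>
    Subgroup.mem_centralizer_singleton_iff.2 hx.symm
  -- the centraliser of the pair `a`, `p`
  have hcap : Subgroup.centralizer ({X.a} : Set G) ⊓ Cp = Subgroup.zpowers (X.a * X.p) := by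
    have hle : Subgroup.zpowers (X.a * X.p) ≤ Subgroup.centralizer ({X.a} : Set G) ⊓ Cp := by
      rw [Subgroup.zpowers_le, Subgroup.mem_inf, hCp, Subgroup.mem_centralizer_singleton_iff,
        Subgroup.mem_centralizer_singleton_iff]
      exact ⟨by rw [mul_assoc, ← hap.eq], by rw [mul_assoc, ← mul_assoc X.p, ← hap.eq, mul_assoc]⟩
    refine (Subgroup.eq_of_le_of_card_ge hle ?_).symm
    rw [Nat.card_zpowers, hap.orderOf_mul_eq_mul_orderOf_of_coprime (by rw [oa, op]; decide), oa, op]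
    let y := X.p * X.m
    have hmap : (Subgroup.centralizer ({X.a} : Set G) ⊓ Cp) ≤
        (Subgroup.centralizer ({X.c} : Set G) ⊓ Subgroup.centralizer ({X.p * X.q} : Set G)).map (cj y) := by
      intro x hx
      obtain ⟨hxa, hxp⟩ := Subgroup.mem_inf.1 hx
      rw [Subgroup.mem_centralizer_singleton_iff] at hxa
      rw [hCp, Subgroup.mem_centralizer_singleton_iff] at hxp
      refine ⟨cj y⁻¹ x, ⟨?_, ?_⟩, by rw [← cj_mul, inv_mul_cancel, cj_apply]; group⟩
      · show _ ∈ Subgroup.centralizer ({X.c} : Set G)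
        have e : cj y⁻¹ X.a = X.c := by rw [← cj_pm_c h, ← cj_mul, mul_inv_cancel, cj_apply]; group
        rw [Subgroup.mem_centralizer_singleton_iff, ← e, ← map_mul, ← map_mul, hxa]
      · show _ ∈ Subgroup.centralizer ({X.p * X.q} : Set G)
        have e : cj y⁻¹ X.p = X.p * X.q := by
          conv_lhs => rw [← cj_pm_pq h]
          rw [← cj_mul, mul_inv_cancel, cj_apply]; group
        rw [Subgroup.mem_centralizer_singleton_iff, ← e, ← map_mul, ← map_mul, hxp]
    calc Nat.card ↥(Subgroup.centralizer ({X.a} : Set G) ⊓ Cp) ≤ _ := Subgroup.card_le_of_le hmap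
      _ = 6 := by rw [Subgroup.card_map_of_injective (by exact (MulAut.conj y⁻¹).injective), hcr]
      _ = 3 * 2 := rfl
  let P : Subgroup Cp := Subgroup.zpowers ⟨X.p, memC rfl⟩
  haveI hPn : P.Normal := ⟨fun z hz g => by
    obtain ⟨i, rfl⟩ := hz
    refine ⟨i, ?_⟩
    have hg : Commute g (⟨X.p, memC rfl⟩ : Cp) :=
      Subtype.ext (Subgroup.mem_centralizer_singleton_iff.1 g.2)
    simp only []
    rw [(hg.zpow_right i).eq, mul_inv_cancel_right]⟩
  let π : Cp →* Cp ⧸ P := QuotientGroup.mk' P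
  have πeq : ∀ x : Cp, π x = 1 ↔ (x : G) ∈ Subgroup.zpowers X.p := by
    intro x
    rw [QuotientGroup.mk'_apply, QuotientGroup.eq_one_iff, Subgroup.mem_zpowers_iff, Subgroup.mem_zpowers_iff]
    exact ⟨fun ⟨i, hi⟩ => ⟨i, by rw [← hi]; rfl⟩, fun ⟨i, hi⟩ => ⟨i, Subtype.ext (by rw [← hi]; rfl)⟩⟩
  have hz2 : ∀ z ∈ Subgroup.zpowers X.p, z = 1 ∨ z = X.p := by
    intro z hz
    obtain ⟨i, rfl⟩ := hz
    simp only []
    rw [← zpow_mod_orderOf, op]
    rcases Int.emod_two_eq_zero_or_one i with e | e <;> simp [e]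
  have hgq : cj X.g X.q = X.p := cj_g_q h
  have hcmn : X.p * X.n = X.n * X.p := comm_of_conj_p h (by rw [← cj_p_eq h]; exact cj_p_n h)
  have hkdef : X.k = cj X.g X.m := (cj_apply _ _).symm
  have hcmk : X.p * X.k = X.k * X.p := by
    rw [hkdef, ← hgq, ← map_mul, ← map_mul, show X.q * X.m = X.m * X.q by rw [← m_sq h]; group]
  have hcme : X.p * cj X.g X.e = cj X.g X.e * X.p := by
    rw [← hgq, ← map_mul, ← map_mul, comm_of_conj_q h h.qe]
  let aa : Cp := ⟨X.a, memC hap.eq.symm⟩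
  let d' : Cp := ⟨X.d, memC (comm_of_conj_p h h.pd)⟩
  let e' : Cp := ⟨cj X.g X.e, memC hcme⟩
  let q' : Cp := ⟨X.q, memC h.pq⟩
  let n' : Cp := ⟨X.n, memC hcmn⟩
  let k' : Cp := ⟨X.k, memC hcmk⟩
  have hα : π aa ^ 3 = 1 := by rw [← map_pow, show aa ^ 3 = 1 from Subtype.ext h.a3, map_one]
  have hα1 : π aa ≠ 1 := by
    intro e
    rcases hz2 _ ((πeq aa).1 e) with e1 | e1
    · exact ha1 e1
    · have : orderOf X.a = 2 := by rw [show X.a = X.p from e1, op]
      omega
  have hkb : k' = aa * e'⁻¹ * aa := Subtype.ext (by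
    show X.k = X.a * (cj X.g X.e)⁻¹ * X.a
    rw [← cj_g_b h, ← map_inv, ← map_mul, ← map_mul, hkdef, Gens.m])
  have hnb : n' = aa * d'⁻¹ * aa := Subtype.ext rfl
  have hn2 : π n' ^ 2 = 1 := by
    rw [← map_pow]
    exact (πeq _).2 (by rw [Subgroup.coe_pow, pow_two, n_sq h]; exact Subgroup.mem_zpowers _)
  have hk2 : π k' ^ 2 = 1 := by
    rw [← map_pow]
    refine (πeq _).2 ?_
    rw [Subgroup.coe_pow, pow_two]
    show X.k * X.k ∈ _
    rw [hkdef, ← map_mul, m_sq h, hgq]
    exact Subgroup.mem_zpowers _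
  have hs2 : π q' ^ 2 = 1 := by rw [← map_pow, show q' ^ 2 = 1 from Subtype.ext h.q2, map_one]
  -- conclusion from any normal subgroup of order prime to three containing both
  suffices ∃ N : Subgroup (Cp ⧸ P), N.Normal ∧ π n' ∈ N ∧ π k' ∈ N ∧ π aa ∉ N by
    obtain ⟨N, hN, hnN, hkN, haN⟩ := this
    have hfix : ∀ α ∈ ({π aa, (π aa)⁻¹} : Set (Cp ⧸ P)), ∀ z ∈ N, z * α = α * z → z = 1 := by
      intro α hαmem z hzN hzc
      have hzc' : z * π aa = π aa * z := by
        rcases hαmem with rfl | rfl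
        · exact hzc
        · have := Commute.inv_right (show Commute z (π aa)⁻¹ from hzc)
          rwa [inv_inv] at this
      obtain ⟨x, rfl⟩ := QuotientGroup.mk'_surjective P z
      have hx : π (x * aa * x⁻¹ * aa⁻¹) = 1 := by
        rw [map_mul, map_mul, map_mul, map_inv, map_inv]
        show π x * π aa * (π x)⁻¹ * (π aa)⁻¹ = 1
        rw [show π x * π aa = π aa * π x from hzc', mul_inv_cancel_right, mul_inv_cancel]
      have hxa : (x : G) * X.a = X.a * (x : G) := by
        rcases hz2 _ ((πeq _).1 hx) with e | e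
        · simp only [Subgroup.coe_mul, InvMemClass.coe_inv] at e
          calc (x : G) * X.a = ((x : G) * X.a * (x : G)⁻¹ * X.a⁻¹) * (X.a * x) := by group
            _ = _ := by rw [e, one_mul]
        · exfalso
          simp only [Subgroup.coe_mul, InvMemClass.coe_inv] at e
          have e' : (x : G) * X.a * (x : G)⁻¹ * X.a⁻¹ = X.p := e
          have e2 : (x : G) * X.a * (x : G)⁻¹ = X.p * X.a := by
            rw [← e', inv_mul_cancel_right]
          have h3 : (X.p * X.a) ^ 3 = 1 := by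
            rw [← e2, conj_pow, h.a3, mul_one, mul_inv_cancel]
          rw [hap.symm.mul_pow, h.a3, mul_one, pow_succ, h.p2, one_mul] at h3
          exact hp1 h3
      have hxm : (x : G) ∈ Subgroup.zpowers (X.a * X.p) := hcap ▸
        ⟨Subgroup.mem_centralizer_singleton_iff.2 hxa, x.2⟩
      obtain ⟨i, hi⟩ := hxm
      have e : π x = π aa ^ i := by
        rw [← map_zpow, eq_comm, ← mul_inv_eq_one, ← map_inv, ← map_mul]
        refine (πeq _).2 ⟨-i, ?_⟩
        show X.p ^ (-i) = ((aa ^ i * x⁻¹ : Cp) : G)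
        rw [Subgroup.coe_mul, InvMemClass.coe_inv, Subgroup.coe_zpow, ← hi]
        show X.p ^ (-i) = X.a ^ i * ((X.a * X.p) ^ i)⁻¹
        rw [hap.mul_zpow, (hap.zpow_zpow i i).eq]
        group
      show π x = 1
      by_contra hx1
      apply haN
      have hi3 : ¬ (3 : ℤ) ∣ i := by
        rintro ⟨j, rfl⟩
        apply hx1
        rw [e, zpow_mul, zpow_ofNat, hα, one_zpow]
      have hpi : π aa ^ i ∈ N := e ▸ hzN
      rcases (show i % 3 = 1 ∨ i % 3 = 2 by omega) with r | r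
      · rw [← Int.emod_add_mul_ediv i 3, r, zpow_add, zpow_one, zpow_mul,
          zpow_ofNat _ 3, hα, one_zpow, mul_one] at hpi
        exact hpi
      · rw [← Int.emod_add_mul_ediv i 3, r, zpow_add, zpow_mul,
          zpow_ofNat _ 3, hα, one_zpow, mul_one] at hpi
        have e3 : π aa ^ (2 : ℤ) * π aa ^ (2 : ℤ) = π aa := by
          rw [← zpow_add, show (2 : ℤ) + 2 = 3 + 1 from rfl, zpow_add, zpow_one,
            zpow_ofNat, hα, one_mul]
        exact e3 ▸ mul_mem hpi hpi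
    haveI := hN
    constructor
    · have := coset_pow_three N hα (hfix _ (Or.inl rfl)) (mul_mem hnN hkN)
      rw [← mul_assoc, ← map_mul, ← map_mul, ← map_pow] at this
      exact (πeq _).1 this
    · have := coset_pow_three N (α := (π aa)⁻¹) (by rw [inv_pow, hα, inv_one]) (hfix _ (Or.inr rfl))
        (mul_mem hkN hnN)
      rw [← mul_assoc, ← map_inv, ← map_mul, ← map_mul, ← map_pow] at this
      exact (πeq _).1 this
  -- apply the classification
  have hX : Nat.card (Subgroup.zpowers (π aa)) = 3 := by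
    rw [Nat.card_zpowers]; exact orderOf_eq_prime hα hα1
  have hCX : Subgroup.centralizer (Subgroup.zpowers (π aa) : Set (Cp ⧸ P)) = Subgroup.zpowers (π aa) := by
    refine le_antisymm (fun z hz => ?_) (Subgroup.le_centralizer _)
    have hzc : π aa * z = z * π aa := Subgroup.mem_centralizer_iff.1 hz _ (Subgroup.mem_zpowers _)
    obtain ⟨x, rfl⟩ := QuotientGroup.mk'_surjective P z
    have hx : π (x * aa * x⁻¹ * aa⁻¹) = 1 := by
      rw [map_mul, map_mul, map_mul, map_inv, map_inv]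
      show π x * π aa * (π x)⁻¹ * (π aa)⁻¹ = 1
      rw [show π x * π aa = π aa * π x from hzc.symm, mul_inv_cancel_right, mul_inv_cancel]
    have hxa : (x : G) * X.a = X.a * (x : G) := by
      rcases hz2 _ ((πeq _).1 hx) with e | e
      · simp only [Subgroup.coe_mul, InvMemClass.coe_inv] at e
        calc (x : G) * X.a = ((x : G) * X.a * (x : G)⁻¹ * X.a⁻¹) * (X.a * x) := by group
          _ = _ := by rw [e, one_mul]
      · exfalso
        simp only [Subgroup.coe_mul, InvMemClass.coe_inv] at e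
        have e' : (x : G) * X.a * (x : G)⁻¹ * X.a⁻¹ = X.p := e
        have e2 : (x : G) * X.a * (x : G)⁻¹ = X.p * X.a := by
          rw [← e', inv_mul_cancel_right]
        have h3 : (X.p * X.a) ^ 3 = 1 := by
          rw [← e2, conj_pow, h.a3, mul_one, mul_inv_cancel]
        rw [hap.symm.mul_pow, h.a3, mul_one, pow_succ, h.p2, one_mul] at h3
        exact hp1 h3
    have hxm : (x : G) ∈ Subgroup.zpowers (X.a * X.p) := hcap ▸
      ⟨Subgroup.mem_centralizer_singleton_iff.2 hxa, x.2⟩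
    obtain ⟨i, hi⟩ := hxm
    refine ⟨i, ?_⟩
    show π aa ^ i = π x
    rw [← map_zpow, ← mul_inv_eq_one, ← map_inv, ← map_mul]
    refine (πeq _).2 ⟨-i, ?_⟩
    show X.p ^ (-i) = ((aa ^ i * x⁻¹ : Cp) : G)
    rw [Subgroup.coe_mul, InvMemClass.coe_inv, Subgroup.coe_zpow, ← hi]
    show X.p ^ (-i) = X.a ^ i * ((X.a * X.p) ^ i)⁻¹
    rw [hap.mul_zpow, (hap.zpow_zpow i i).eq]
    group
  have fromQuot : ∀ (N : Subgroup (Cp ⧸ P)) [N.Normal],
      (∀ x y : (Cp ⧸ P) ⧸ N, x ^ 2 = 1 → x ≠ 1 → x * y = y * x → y ^ 2 = 1) → π aa ∉ N →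
      π n' ∈ N ∧ π k' ∈ N := by
    intro N _ hQ haN
    let ρ := (QuotientGroup.mk' N).comp π
    have hone : ∀ x : Cp, π x ∈ N ↔ ρ x = 1 := fun x => (QuotientGroup.eq_one_iff _).symm
    have r3 : ρ aa ^ 3 = 1 := by rw [← map_pow, show aa ^ 3 = 1 from Subtype.ext h.a3, map_one]
    have r1 : ρ aa ≠ 1 := fun e => haN ((hone _).2 e)
    have rs : ρ q' ^ 2 = 1 := by rw [← map_pow, show q' ^ 2 = 1 from Subtype.ext h.q2, map_one]
    have rsa : ρ q' * ρ aa * ρ q' = (ρ aa)⁻¹ := by
      rw [← map_inv, ← map_mul, ← map_mul]; congr 1; exact Subtype.ext h.qa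
    have key : ∀ δ z : Cp, aa * δ⁻¹ * aa = δ⁻¹ * aa * δ⁻¹ → z = aa * δ⁻¹ * aa → π z ^ 2 = 1 →
        q' * δ * q' = δ⁻¹ → π z ∈ N := by
      intro δ z hb hz hz2 hq
      rw [hone, hz, map_mul, map_mul, map_inv]
      refine braid_trivial hQ r3 r1 ?_ ?_ rs rsa ?_
      · rw [← map_inv, ← map_mul, ← map_mul, ← map_mul, ← map_mul, hb]
      · rw [← map_inv, ← map_mul, ← map_mul, ← hz]
        show (QuotientGroup.mk' N) (π z) ^ 2 = 1
        rw [← map_pow, hz2, map_one]
      · rw [← map_inv, ← map_mul, ← map_mul, hq]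
    refine ⟨key d' n' (Subtype.ext h.adBraid) hnb hn2 (Subtype.ext h.qd),
      key e' k' (Subtype.ext ?_) hkb hk2 (Subtype.ext ?_)⟩
    · show X.a * (cj X.g X.e)⁻¹ * X.a = (cj X.g X.e)⁻¹ * X.a * (cj X.g X.e)⁻¹
      rw [← cj_g_b h, ← map_inv]
      simp only [← map_mul, h.beBraid]
    · show X.q * cj X.g X.e * X.q = (cj X.g X.e)⁻¹
      have h1 : (X.p * X.q) * X.e * (X.p * X.q) = X.e⁻¹ := by
        calc (X.p * X.q) * X.e * (X.p * X.q) = (X.p * X.q) * X.e * (X.q * X.p) := by rw [← h.pq]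
          _ = X.p * (X.q * X.e * X.q) * X.p := by group
          _ = _ := by rw [h.qe, h.pe]
      rw [← cj_g_pq h, ← map_mul, ← map_mul, ← map_inv, h1]
  rcases S3331.result (Subgroup.zpowers (π aa)) hX hCX with ⟨N, hN, -, hcop, hQ⟩ | ⟨N, hN, -, hN2, ⟨e⟩⟩ | ⟨⟨e⟩⟩
  · haveI := hN
    have haN : π aa ∉ N := fun hm => by
      have h1 := Subgroup.orderOf_dvd_natCard N hm
      rw [orderOf_eq_prime hα hα1] at h1
      exact absurd (Nat.Coprime.eq_one_of_dvd hcop.symm h1) (by decide)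
    obtain ⟨h1, h2⟩ := fromQuot N (hQ.elim comm_exp_two_of_card_three
      (fun ⟨e⟩ => comm_exp_two_transfer e comm_exp_two_S3)) haN
    exact ⟨N, hN, h1, h2, haN⟩
  · haveI := hN
    have haN : π aa ∉ N := fun hm => hα1 (by
      have := hN2 _ hm
      rw [pow_succ, this, one_mul] at hα
      exact hα)
    obtain ⟨h1, h2⟩ := fromQuot N (comm_exp_two_transfer e comm_exp_two_A5) haN
    exact ⟨N, hN, h1, h2, haN⟩
  · exfalso
    haveI : Fact (Nat.Prime 7) := ⟨by norm_num⟩
    have hn4 : X.n * X.n ≠ 1 := by rw [n_sq h]; exact hp1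
    have on : orderOf (π n') = 2 := orderOf_eq_prime hn2 (fun e => by
      rcases hz2 _ ((πeq n').1 e) with e1 | e1
      · exact hn4 (by rw [show X.n = 1 from e1, mul_one])
      · exact hn4 (by rw [show X.n = X.p from e1, ← pow_two, h.p2]))
    have oq : orderOf (π q') = 2 := orderOf_eq_prime hs2 (fun e => by
      have hq1 : X.q ≠ 1 := fun e1 => hp1 (by rw [← hgq, e1, map_one])
      rcases hz2 _ ((πeq q').1 e) with e1 | e1
      · exact hq1 e1
      · have h1 : X.a⁻¹ = X.a := by rw [← h.qa, show X.q = X.p from e1, h.pa]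
        have h2 : X.a * X.a = 1 := by nth_rw 1 [← h1]; exact inv_mul_cancel _
        have := h.a3
        rw [pow_succ, pow_two, h2, one_mul] at this
        exact ha1 this)
    have hc := Lie.OddGraphPSL2.involutions_isConj (x := e (π q')) (y := e (π n'))
      (by rw [MulEquiv.orderOf_eq, oq]) (by rw [MulEquiv.orderOf_eq, on])
    obtain ⟨u, hu⟩ := isConj_iff.1 hc
    obtain ⟨v, rfl⟩ := e.surjective u
    obtain ⟨w, rfl⟩ := QuotientGroup.mk'_surjective P v
    rw [← map_inv, ← map_mul, ← map_mul] at hu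
    have hu' : π w * π q' * (π w)⁻¹ = π n' := e.injective hu
    have h1 : π (w * q' * w⁻¹ * n'⁻¹) = 1 := by
      rw [map_mul, map_mul, map_mul, map_inv, map_inv, hu', mul_inv_cancel]
    have hsq : ((w : G) * X.q * (w : G)⁻¹) ^ 2 = 1 := by rw [conj_pow, h.q2, mul_one, mul_inv_cancel]
    rcases hz2 _ ((πeq _).1 h1) with e1 | e1 <;>
      simp only [Subgroup.coe_mul, InvMemClass.coe_inv] at e1
    · rw [mul_inv_eq_one] at e1
      rw [e1, pow_two] at hsq
      exact hn4 hsq
    · rw [mul_inv_eq_iff_eq_mul] at e1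
      rw [e1, (show Commute X.p X.n from hcmn).mul_pow, h.p2, one_mul, pow_two] at hsq
      exact hn4 hsq

end Cfsg.Agent.MTwelveAmal
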