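import Cfsg.Agent.Lib.Spor.MTwelveAmal.Words
import Cfsg.Agent.Lib.Local.FS.MathieuPerms
import Cfsg.Agent.Lib.Spor.MathieuSimple
import Mathlib.LinearAlgebra.Matrix.Transvection

/-!
The two groups realising the amalgam: `PSL(3,3)` and `M₁₂`.
-/

set_option autoImplicit false
set_option maxRecDepth 100000

namespace Cfsg.Agent.MTwelveAmal

open Cfsg Cfsg.Agent.Local.FS.Mathieu Cfsg.Agent.Spor
open scoped Pointwise

/-- the generators as a set -/
def Gens.genSet {G : Type*} (X : Gens G) : Set G := {X.a, X.b, X.c, X.d, X.e, X.p, X.q}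

/-- image of generators -/
def Gens.push {G H : Type*} [Group G] [Group H] (f : G →* H) (X : Gens G) : Gens H :=
  ⟨f X.a, f X.b, f X.c, f X.d, f X.e, f X.p, f X.q⟩

theorem Gens.Rels.push {G H : Type*} [Group G] [Group H] (f : G →* H) {X : Gens G} (h : X.Rels) :
    (X.push f).Rels := by
  constructor <;> simp only [Gens.push, ← map_mul, ← map_pow, ← map_inv] <;>
    first
    | rw [h.a3, map_one] | rw [h.b3, map_one] | rw [h.c3, map_one] | rw [h.d3, map_one] | rw [h.e3, map_one]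
    | rw [h.p2, map_one] | rw [h.q2, map_one] | rw [h.pq] | rw [h.ab] | rw [h.ac] | rw [h.bc]
    | rw [h.pa] | rw [h.pb] | rw [h.pc] | rw [h.pd] | rw [h.pe]
    | rw [h.qa] | rw [h.qb] | rw [h.qc] | rw [h.qd] | rw [h.qe]
    | rw [h.bd] | rw [h.dc] | rw [h.adSq] | rw [h.beSq] | rw [h.adBraid] | rw [h.ea] | rw [h.ce] | rw [h.beBraid]

/-! ### The linear group -/

/-- the special linear group -/
abbrev SLThree : Type := Matrix.SpecialLinearGroup (Fin 3) (ZMod 3)

/-- the generators in the special linear group -/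
def slGens : Gens SLThree where
  a := ⟨!![1, 1, 0; 0, 1, 0; 0, 0, 1], by decide +kernel⟩
  b := ⟨!![1, 0, 0; 0, 1, 1; 0, 0, 1], by decide +kernel⟩
  c := ⟨!![1, 0, 1; 0, 1, 0; 0, 0, 1], by decide +kernel⟩
  d := ⟨!![1, 0, 0; 1, 1, 0; 0, 0, 1], by decide +kernel⟩
  e := ⟨!![1, 0, 0; 0, 1, 0; 0, 1, 1], by decide +kernel⟩
  p := ⟨!![-1, 0, 0; 0, -1, 0; 0, 0, 1], by decide +kernel⟩
  q := ⟨!![1, 0, 0; 0, -1, 0; 0, 0, -1], by decide +kernel⟩

theorem slGens_rels : slGens.Rels := by constructor <;> decide +kernel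

theorem slGens_signs : (slGens.a * slGens.n * slGens.k) ^ 3 = slGens.p ∧
    (slGens.a⁻¹ * slGens.k * slGens.n) ^ 3 = slGens.p := by
  constructor <;> decide +kernel

/-- the elementary matrices -/
def slElem : Fin 3 → Fin 3 → SLThree :=
  ![![1, slGens.a, slGens.c], ![slGens.d, 1, slGens.b],
    ![slGens.e * slGens.d * slGens.e⁻¹ * slGens.d⁻¹, slGens.e, 1]]

theorem slElem_spec : ∀ i j : Fin 3, ∀ x : ZMod 3, i ≠ j → (slElem i j ^ x.val).1 = Matrix.transvection i j x := by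
  decide +kernel

theorem slDiag_spec : ∀ D : Fin 3 → ZMod 3, D 0 * D 1 * D 2 = 1 →
    ∃ g ∈ [1, slGens.p, slGens.q, slGens.p * slGens.q], (g : SLThree).1 = Matrix.diagonal D := by
  decide +kernel

theorem slGens_closure : Subgroup.closure slGens.genSet = ⊤ := by
  set H := Subgroup.closure slGens.genSet with hH
  have hm : ∀ x ∈ slGens.genSet, x ∈ H := fun x hx => Subgroup.subset_closure hx
  have hel : ∀ i j, slElem i j ∈ H := by
    have ha := hm slGens.a (by simp [Gens.genSet])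
    have hb := hm slGens.b (by simp [Gens.genSet])
    have hc := hm slGens.c (by simp [Gens.genSet])
    have hd := hm slGens.d (by simp [Gens.genSet])
    have he := hm slGens.e (by simp [Gens.genSet])
    intro i j
    fin_cases i <;> fin_cases j <;> simp [slElem] <;>
      first | exact ha | exact hb | exact hc | exact hd | exact he |
        exact H.mul_mem (H.mul_mem (H.mul_mem he hd) (H.inv_mem he)) (H.inv_mem hd)
  have hlist : ∀ L : List (Matrix.TransvectionStruct (Fin 3) (ZMod 3)),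
      ∃ g ∈ H, g.1 = (L.map Matrix.TransvectionStruct.toMatrix).prod := by
    intro L
    induction L with
    | nil => exact ⟨1, H.one_mem, by simp⟩
    | cons t L ih =>
      obtain ⟨g, hg, e⟩ := ih
      refine ⟨slElem t.i t.j ^ t.c.val * g, H.mul_mem (H.pow_mem (hel _ _) _) hg, ?_⟩
      rw [List.map_cons, List.prod_cons, Matrix.SpecialLinearGroup.coe_mul, slElem_spec _ _ _ t.hij, e]
      rfl
  rw [eq_top_iff]
  intro M _
  obtain ⟨L, L', D, hM⟩ := Matrix.Pivot.exists_list_transvec_mul_diagonal_mul_list_transvec M.1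
  have hD : D 0 * D 1 * D 2 = 1 := by
    have h := congrArg Matrix.det hM
    rw [M.2, Matrix.det_mul, Matrix.det_mul, Matrix.TransvectionStruct.det_toMatrix_prod,
      Matrix.TransvectionStruct.det_toMatrix_prod, Matrix.det_diagonal, Fin.prod_univ_three, one_mul, mul_one] at h
    exact h.symm
  obtain ⟨g, hg, eg⟩ := slDiag_spec D hD
  obtain ⟨u, hu, eu⟩ := hlist L
  obtain ⟨v, hv, ev⟩ := hlist L'
  have hgH : g ∈ H := by
    have hp := hm slGens.p (by simp [Gens.genSet])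
    have hq := hm slGens.q (by simp [Gens.genSet])
    simp only [List.mem_cons, List.not_mem_nil, or_false] at hg
    rcases hg with rfl | rfl | rfl | rfl
    exacts [H.one_mem, hp, hq, H.mul_mem hp hq]
  rw [show M = u * g * v from Subtype.ext (by
    rw [Matrix.SpecialLinearGroup.coe_mul, Matrix.SpecialLinearGroup.coe_mul, eu, eg, ev, ← hM])]
  exact H.mul_mem (H.mul_mem hu hgH) hv

/-- The linear model. -/
theorem pslModel : ∃ X : Gens (Matrix.ProjectiveSpecialLinearGroup (Fin 3) (ZMod 3)), X.Rels ∧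
    Subgroup.closure {X.a, X.b, X.c, X.d, X.e, X.p, X.q} = ⊤ ∧
    (X.a * X.n * X.k) ^ 3 = X.p ∧ (X.a⁻¹ * X.k * X.n) ^ 3 = X.p := by
  let f := QuotientGroup.mk' (Subgroup.center SLThree)
  refine ⟨slGens.push f, slGens_rels.push f, ?_, ?_, ?_⟩
  · rw [← Subgroup.map_top_of_surjective f (QuotientGroup.mk'_surjective _), ← slGens_closure,
      MonoidHom.map_closure]
    simp [Gens.genSet, Gens.push, Set.image_insert_eq]
  · have h := congrArg f slGens_signs.1
    simpa [Gens.push, Gens.n, Gens.k, Gens.g, Gens.m] using h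
  · have h := congrArg f slGens_signs.2
    simpa [Gens.push, Gens.n, Gens.k, Gens.g, Gens.m] using h

/-! ### The Mathieu group -/

def aP : Equiv.Perm GolayPt :=
  mkPerm [0, 1, 2, 6, 16, 19, 9, 10, 12, 3, 17, 11, 18, 4, 21, 5, 13, 7, 8, 15, 14, 20, 22, 23] [0, 1, 2, 9, 13, 15, 3, 17, 18, 6, 7, 11, 8, 16, 20, 19, 4, 10, 12, 5, 21, 14, 22, 23] (by decide +kernel) (by decide +kernel)

def bP : Equiv.Perm GolayPt :=
  mkPerm [1, 2, 0, 3, 4, 23, 18, 7, 9, 13, 10, 21, 12, 8, 5, 11, 6, 17, 16, 22, 19, 15, 20, 14] [2, 0, 1, 3, 4, 14, 16, 7, 13, 8, 10, 15, 12, 9, 23, 21, 18, 17, 6, 20, 22, 11, 19, 5] (by decide +kernel) (by decide +kernel)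

def cP : Equiv.Perm GolayPt :=
  mkPerm [0, 1, 2, 4, 12, 15, 16, 7, 9, 13, 10, 22, 3, 8, 21, 19, 18, 17, 6, 5, 14, 20, 23, 11] [0, 1, 2, 12, 3, 19, 18, 7, 13, 8, 10, 23, 4, 9, 20, 5, 6, 17, 16, 15, 21, 14, 11, 22] (by decide +kernel) (by decide +kernel)

def dP : Equiv.Perm GolayPt :=
  mkPerm [18, 16, 6, 3, 4, 5, 9, 17, 1, 2, 7, 21, 12, 0, 14, 11, 8, 10, 13, 20, 22, 15, 19, 23] [13, 8, 9, 3, 4, 5, 2, 10, 16, 6, 17, 15, 12, 18, 14, 21, 1, 7, 0, 22, 19, 11, 20, 23] (by decide +kernel) (by decide +kernel)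

def eP : Equiv.Perm GolayPt :=
  mkPerm [2, 0, 1, 3, 13, 17, 6, 21, 12, 9, 20, 11, 18, 16, 5, 10, 4, 14, 8, 7, 15, 19, 22, 23] [1, 2, 0, 3, 16, 14, 6, 19, 18, 9, 15, 11, 8, 4, 17, 20, 13, 5, 12, 21, 10, 7, 22, 23] (by decide +kernel) (by decide +kernel)

def pP : Equiv.Perm GolayPt :=
  mkPerm [1, 0, 2, 3, 12, 14, 6, 7, 13, 9, 10, 22, 4, 8, 5, 20, 18, 17, 16, 21, 15, 19, 11, 23] [1, 0, 2, 3, 12, 14, 6, 7, 13, 9, 10, 22, 4, 8, 5, 20, 18, 17, 16, 21, 15, 19, 11, 23] (by decide +kernel) (by decide +kernel)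

def qP : Equiv.Perm GolayPt :=
  mkPerm [0, 1, 2, 3, 12, 5, 9, 10, 16, 6, 7, 22, 4, 18, 14, 19, 8, 17, 13, 15, 21, 20, 11, 23] [0, 1, 2, 3, 12, 5, 9, 10, 16, 6, 7, 22, 4, 18, 14, 19, 8, 17, 13, 15, 21, 20, 11, 23] (by decide +kernel) (by decide +kernel)

/-- the generators in the Mathieu group -/
def mGens : Gens Spor.M12 where
  a := ⟨aP, m12_mem_of_lst (by decide +kernel)⟩
  b := ⟨bP, m12_mem_of_lst (by decide +kernel)⟩
  c := ⟨cP, m12_mem_of_lst (by decide +kernel)⟩
  d := ⟨dP, m12_mem_of_lst (by decide +kernel)⟩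
  e := ⟨eP, m12_mem_of_lst (by decide +kernel)⟩
  p := ⟨pP, m12_mem_of_lst (by decide +kernel)⟩
  q := ⟨qP, m12_mem_of_lst (by decide +kernel)⟩

theorem mGens_rels : mGens.Rels := by constructor <;> decide +kernel

theorem mGens_signs : (mGens.a * mGens.n * mGens.k) ^ 3 = 1 ∧ (mGens.a⁻¹ * mGens.k * mGens.n) ^ 3 = 1 := by
  constructor <;> decide +kernel

/-- normal form in the Sylow subgroup -/
def sylForm (w : ZMod 3 × ZMod 3 × ZMod 3) : Spor.M12 :=
  mGens.a ^ w.1.val * mGens.b ^ w.2.1.val * mGens.c ^ w.2.2.val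

theorem sylForm_mul : ∀ u v : ZMod 3 × ZMod 3 × ZMod 3,
    sylForm u * sylForm v = sylForm (u.1 + v.1, u.2.1 + v.2.1, u.2.2 + v.2.2 - v.1 * u.2.1) := by
  decide +kernel

theorem sylForm_inj : ∀ u : ZMod 3 × ZMod 3 × ZMod 3, sylForm u = 1 → u = 0 := by decide +kernel

/-- `M₁₂` is simple. -/
theorem mTwelve_simple : IsSimpleGroup Spor.M12 := by
  have hd : Spor.squareDodecad ∈ dodecads :=
    ⟨⟨qrWord 0, Submodule.subset_span (Or.inl ⟨0, rfl⟩), rfl⟩, by decide +kernel⟩
  haveI := simple_stab_dodecad hd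
  exact MulEquiv.isSimpleGroup (G := Spor.M12) (H := MulAction.stabilizer M24 Spor.squareDodecad)
    { toFun := fun g => ⟨⟨g.1, g.2.1⟩, g.2.2⟩
      invFun := fun g => ⟨g.1.1, g.1.2, g.2⟩
      left_inv := fun _ => rfl
      right_inv := fun _ => rfl
      map_mul' := fun _ _ => rfl }

theorem mGens_closure : Subgroup.closure mGens.genSet = ⊤ := by
  classical
  haveI : Fact (Nat.Prime 5) := ⟨by norm_num⟩
  haveI : Fact (Nat.Prime 11) := ⟨by norm_num⟩
  haveI : Fact (Nat.Prime 2) := ⟨Nat.prime_two⟩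
  haveI := mTwelve_simple
  set H := Subgroup.closure mGens.genSet with hH
  have hm : ∀ x ∈ mGens.genSet, x ∈ H := fun x hx => Subgroup.subset_closure hx
  have ha := hm mGens.a (by simp [Gens.genSet])
  have hb := hm mGens.b (by simp [Gens.genSet])
  have hc := hm mGens.c (by simp [Gens.genSet])
  have hd := hm mGens.d (by simp [Gens.genSet])
  have he := hm mGens.e (by simp [Gens.genSet])
  have hp := hm mGens.p (by simp [Gens.genSet])
  have hq := hm mGens.q (by simp [Gens.genSet])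
  have h5 : 5 ∣ Nat.card H := by
    rw [← orderOf_eq_prime (show (mGens.d * mGens.e * mGens.p) ^ 5 = 1 by decide +kernel) (by decide +kernel)]
    exact Subgroup.orderOf_dvd_natCard H (H.mul_mem (H.mul_mem hd he) hp)
  have h11 : 11 ∣ Nat.card H := by
    rw [← orderOf_eq_prime (show (mGens.c * mGens.e * mGens.d) ^ 11 = 1 by decide +kernel) (by decide +kernel)]
    exact Subgroup.orderOf_dvd_natCard H (H.mul_mem (H.mul_mem hc he) hd)
  have h8 : 2 ^ (2 + 1) ∣ Nat.card H := by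
    rw [← orderOf_eq_prime_pow (show ¬ (mGens.a * mGens.d * mGens.q) ^ 2 ^ 2 = 1 by decide +kernel)
      (show (mGens.a * mGens.d * mGens.q) ^ 2 ^ (2 + 1) = 1 by decide +kernel)]
    exact Subgroup.orderOf_dvd_natCard H (H.mul_mem (H.mul_mem ha hd) hq)
  have h27 : 27 ∣ Nat.card H := by
    let T : Subgroup Spor.M12 :=
      { carrier := Set.range sylForm
        one_mem' := ⟨0, by decide +kernel⟩
        mul_mem' := by rintro _ _ ⟨u, rfl⟩ ⟨v, rfl⟩; exact ⟨_, (sylForm_mul u v).symm⟩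
        inv_mem' := by
          rintro _ ⟨u, rfl⟩
          refine ⟨(-u.1, -u.2.1, -u.2.2 - u.1 * u.2.1), eq_inv_of_mul_eq_one_right ?_⟩
          rw [sylForm_mul]
          ring_nf
          decide +kernel }
    have hle : T ≤ H := by
      rintro _ ⟨w, rfl⟩
      exact H.mul_mem (H.mul_mem (H.pow_mem ha _) (H.pow_mem hb _)) (H.pow_mem hc _)
    have hinj : Function.Injective sylForm := by
      intro u v h
      have h0 : sylForm (-u.1, -u.2.1, -u.2.2 - u.1 * u.2.1) * sylForm v = sylForm 0 := by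
        rw [← h, sylForm_mul]; ring_nf; rfl
      rw [sylForm_mul] at h0
      have h1 := sylForm_inj _ (h0.trans (by decide +kernel))
      simp only [Prod.mk_eq_zero] at h1
      obtain ⟨e1, e2, e3⟩ := h1
      have f1 : u.1 = v.1 := by linear_combination -e1
      have f2 : u.2.1 = v.2.1 := by linear_combination -e2
      refine Prod.ext f1 (Prod.ext f2 ?_)
      rw [← f1] at e3
      linear_combination -e3
    refine dvd_trans (dvd_of_eq ?_) (Subgroup.card_dvd_of_le hle)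
    rw [show Nat.card T = Nat.card (Set.range sylForm) from rfl, Nat.card_range_of_injective hinj]
    simp [Nat.card_prod]
  have hdvd : 11880 ∣ Nat.card H := by
    have h1 := Nat.Coprime.mul_dvd_of_dvd_of_dvd (by norm_num : Nat.Coprime 5 11) h5 h11
    have h2 := Nat.Coprime.mul_dvd_of_dvd_of_dvd (by norm_num : Nat.Coprime (5 * 11) (2 ^ (2 + 1))) h1 h8
    exact Nat.Coprime.mul_dvd_of_dvd_of_dvd (by norm_num : Nat.Coprime (5 * 11 * 2 ^ (2 + 1)) 27) h2 h27
  have hci := H.card_mul_index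
  rw [card_m12] at hci
  have hidx : H.index ≤ 8 := by
    obtain ⟨k, hk⟩ := hdvd
    rw [hk] at hci
    refine Nat.le_of_dvd (by norm_num) ⟨k, ?_⟩
    have : 11880 * (k * H.index) = 11880 * 8 := by rw [← mul_assoc, hci]
    rw [mul_comm, Nat.eq_of_mul_eq_mul_left (by norm_num) this]
  rcases (Subgroup.normalCore_normal H).eq_bot_or_eq_top with hb' | ht
  · exfalso
    have hinj : Function.Injective (MulAction.toPermHom Spor.M12 (Spor.M12 ⧸ H)) := by
      rw [← MonoidHom.ker_eq_bot_iff, ← Subgroup.normalCore_eq_ker]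
      exact hb'
    have h := Subgroup.card_dvd_of_injective _ hinj
    rw [card_m12, Nat.card_perm, ← Subgroup.index_eq_card] at h
    have h8' : 95040 ∣ Nat.factorial 8 := h.trans (Nat.factorial_dvd_factorial hidx)
    norm_num [Nat.factorial] at h8'
  · exact top_le_iff.1 (ht ▸ Subgroup.normalCore_le H)

/-- The Mathieu model. -/
theorem mTwelveModel : ∃ X : Gens Spor.M12, X.Rels ∧
    Subgroup.closure {X.a, X.b, X.c, X.d, X.e, X.p, X.q} = ⊤ ∧
    (X.a * X.n * X.k) ^ 3 = 1 ∧ (X.a⁻¹ * X.k * X.n) ^ 3 = 1 :=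
  ⟨mGens, mGens_rels, mGens_closure, mGens_signs.1, mGens_signs.2⟩

theorem mTwelve_card : Nat.card Spor.M12 = 95040 := card_m12

end Cfsg.Agent.MTwelveAmal
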