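import Cfsg.Agent.Lib.Spor.MTwelveAmal.Normalise
import Cfsg.Agent.Lib.Spor.MTwelveAmal.Models
import Cfsg.Agent.Lib.Spor.MTwelveAmal.Cent
import Cfsg.Agent.Lib.Spor.MTwelveAmal.Bound
import Cfsg.Agent.Lib.Local.FS.SimplePSL3
import Cfsg.Agent.S0249

/-!
A group generated by the amalgam of two copies of 3²:GL(2,3) is `M₁₂` or `PSL(3,3)`.
-/

set_option autoImplicit false

namespace Cfsg.Agent.MTwelveAmal

theorem card_psl33 : Nat.card (Matrix.ProjectiveSpecialLinearGroup (Fin 3) (ZMod 3)) = 5616 := by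
  have h := Local.FS.PSL3Simple.card_SL3 (F := ZMod 3)
  rw [ZMod.card] at h
  have hc : Subgroup.center (Matrix.SpecialLinearGroup (Fin 3) (ZMod 3)) = ⊥ := by
    rw [Subgroup.eq_bot_iff_forall]
    intro x hx
    obtain ⟨r, hr, hs⟩ := Matrix.SpecialLinearGroup.mem_center_iff.1 hx
    have key : ∀ r : ZMod 3, r ^ 3 = 1 → r = 1 := by decide
    have : r = 1 := key r (by rwa [Fintype.card_fin] at hr)
    subst this
    exact Subtype.ext (by simpa using hs.symm)
  show Nat.card (_ ⧸ Subgroup.center _) = 5616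
  rw [show Nat.card (Matrix.SpecialLinearGroup (Fin 3) (ZMod 3) ⧸ Subgroup.center _) =
    (Subgroup.center (Matrix.SpecialLinearGroup (Fin 3) (ZMod 3))).index from rfl, hc, Subgroup.index_bot]
  have e : (3 : ℕ) ^ 3 * (3 - 1) ^ 3 * ((3 + 1) * (3 ^ 2 + 3 + 1)) = 11232 := by norm_num
  rw [e] at h
  omega

section Pair

variable {G L : Type*} [Group G] [Group L] (X : Gens G) (Y : Gens L)

/-- paired generators -/
def pairGens : Gens (G × L) := ⟨(X.a, Y.a), (X.b, Y.b), (X.c, Y.c), (X.d, Y.d), (X.e, Y.e), (X.p, Y.p), (X.q, Y.q)⟩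

variable {X Y}

theorem pairGens_rels (h : X.Rels) (h' : Y.Rels) : (pairGens X Y).Rels where
  a3 := Prod.ext h.a3 h'.a3
  b3 := Prod.ext h.b3 h'.b3
  c3 := Prod.ext h.c3 h'.c3
  d3 := Prod.ext h.d3 h'.d3
  e3 := Prod.ext h.e3 h'.e3
  p2 := Prod.ext h.p2 h'.p2
  q2 := Prod.ext h.q2 h'.q2
  pq := Prod.ext h.pq h'.pq
  ab := Prod.ext h.ab h'.ab
  ac := Prod.ext h.ac h'.ac
  bc := Prod.ext h.bc h'.bc
  pa := Prod.ext h.pa h'.pa
  pb := Prod.ext h.pb h'.pb
  pc := Prod.ext h.pc h'.pc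
  pd := Prod.ext h.pd h'.pd
  pe := Prod.ext h.pe h'.pe
  qa := Prod.ext h.qa h'.qa
  qb := Prod.ext h.qb h'.qb
  qc := Prod.ext h.qc h'.qc
  qd := Prod.ext h.qd h'.qd
  qe := Prod.ext h.qe h'.qe
  bd := Prod.ext h.bd h'.bd
  dc := Prod.ext h.dc h'.dc
  adBraid := Prod.ext h.adBraid h'.adBraid
  adSq := Prod.ext h.adSq h'.adSq
  ea := Prod.ext h.ea h'.ea
  ce := Prod.ext h.ce h'.ce
  beBraid := Prod.ext h.beBraid h'.beBraid
  beSq := Prod.ext h.beSq h'.beSq

/-- generators seen inside the subgroup they generate -/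
def restrictGens {K : Type*} [Group K] (W : Gens K) : Gens (Subgroup.closure W.genSet) :=
  ⟨⟨W.a, Subgroup.subset_closure (by simp [Gens.genSet])⟩, ⟨W.b, Subgroup.subset_closure (by simp [Gens.genSet])⟩,
   ⟨W.c, Subgroup.subset_closure (by simp [Gens.genSet])⟩, ⟨W.d, Subgroup.subset_closure (by simp [Gens.genSet])⟩,
   ⟨W.e, Subgroup.subset_closure (by simp [Gens.genSet])⟩, ⟨W.p, Subgroup.subset_closure (by simp [Gens.genSet])⟩,
   ⟨W.q, Subgroup.subset_closure (by simp [Gens.genSet])⟩⟩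

theorem restrictGens_rels {K : Type*} [Group K] {W : Gens K} (h : W.Rels) : (restrictGens W).Rels where
  a3 := Subtype.ext h.a3
  b3 := Subtype.ext h.b3
  c3 := Subtype.ext h.c3
  d3 := Subtype.ext h.d3
  e3 := Subtype.ext h.e3
  p2 := Subtype.ext h.p2
  q2 := Subtype.ext h.q2
  pq := Subtype.ext h.pq
  ab := Subtype.ext h.ab
  ac := Subtype.ext h.ac
  bc := Subtype.ext h.bc
  pa := Subtype.ext h.pa
  pb := Subtype.ext h.pb
  pc := Subtype.ext h.pc
  pd := Subtype.ext h.pd
  pe := Subtype.ext h.pe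
  qa := Subtype.ext h.qa
  qb := Subtype.ext h.qb
  qc := Subtype.ext h.qc
  qd := Subtype.ext h.qd
  qe := Subtype.ext h.qe
  bd := Subtype.ext h.bd
  dc := Subtype.ext h.dc
  adBraid := Subtype.ext h.adBraid
  adSq := Subtype.ext h.adSq
  ea := Subtype.ext h.ea
  ce := Subtype.ext h.ce
  beBraid := Subtype.ext h.beBraid
  beSq := Subtype.ext h.beSq

theorem restrictGens_top {K : Type*} [Group K] (W : Gens K) :
    Subgroup.closure (restrictGens W).genSet = ⊤ := by
  rw [← Subgroup.closure_closure_coe_preimage (k := W.genSet)]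
  congr 1
  ext x
  constructor
  · intro hx
    have hx' : (x : K) = W.a ∨ (x : K) = W.b ∨ (x : K) = W.c ∨ (x : K) = W.d ∨ (x : K) = W.e ∨ (x : K) = W.p ∨
        (x : K) = W.q := by
      rcases hx with rfl | rfl | rfl | rfl | rfl | rfl | rfl <;> simp [restrictGens]
    show (x : K) ∈ W.genSet
    simpa [Gens.genSet] using hx'
  · intro hx
    have hx' : (x : K) ∈ W.genSet := hx
    simp only [Gens.genSet, Set.mem_insert_iff, Set.mem_singleton_iff] at hx'
    rcases hx' with e | e | e | e | e | e | e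
    exacts [Or.inl (Subtype.ext e), Or.inr (Or.inl (Subtype.ext e)), Or.inr (Or.inr (Or.inl (Subtype.ext e))),
      Or.inr (Or.inr (Or.inr (Or.inl (Subtype.ext e)))), Or.inr (Or.inr (Or.inr (Or.inr (Or.inl (Subtype.ext e))))),
      Or.inr (Or.inr (Or.inr (Or.inr (Or.inr (Or.inl (Subtype.ext e)))))),
      Or.inr (Or.inr (Or.inr (Or.inr (Or.inr (Or.inr (Subtype.ext e))))))]

/-- a nontrivial group sharing the bound with a simple model is isomorphic to the model -/
theorem iso_of_model [Finite G] [Finite L] [Nontrivial G] [IsSimpleGroup L]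
    (hX : Subgroup.closure X.genSet = ⊤) (hY : Subgroup.closure Y.genSet = ⊤)
    (hbound : Nat.card (Subgroup.closure (pairGens X Y).genSet) ≤ Nat.card L) :
    Nonempty (G ≃* L) := by
  set K := Subgroup.closure (pairGens X Y).genSet with hK
  let f : K →* G := (MonoidHom.fst G L).comp K.subtype
  let g : K →* L := (MonoidHom.snd G L).comp K.subtype
  have hmap : ∀ {M : Type _} [Group M] (φ : G × L →* M) (S : Set M), φ '' (pairGens X Y).genSet = S →
      (φ.comp K.subtype).range = Subgroup.closure S := by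
    intro M _ φ S hS
    rw [MonoidHom.range_eq_map, ← Subgroup.map_map, ← MonoidHom.range_eq_map, Subgroup.range_subtype, hK,
      MonoidHom.map_closure, hS]
  have hf : Function.Surjective f := by
    rw [← MonoidHom.range_eq_top, ← hX]
    exact hmap _ _ (by simp [pairGens, Gens.genSet, Set.image_insert_eq])
  have hg : Function.Surjective g := by
    rw [← MonoidHom.range_eq_top, ← hY]
    rw [MonoidHom.range_eq_map, ← Subgroup.map_map, ← MonoidHom.range_eq_map, Subgroup.range_subtype, hK,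
      MonoidHom.map_closure]
    simp [pairGens, Gens.genSet, Set.image_insert_eq]
  have hbij : Function.Bijective g :=
    hg.bijective_of_nat_card_le hbound
  let φ : L →* G := f.comp (MulEquiv.ofBijective g hbij).symm.toMonoidHom
  have hφ : Function.Surjective φ := hf.comp (MulEquiv.ofBijective g hbij).symm.surjective
  rcases IsSimpleGroup.eq_bot_or_eq_top_of_normal φ.ker inferInstance with h | h
  · exact ⟨(MulEquiv.ofBijective φ ⟨(φ.ker_eq_bot_iff).1 h, hφ⟩).symm⟩
  · exfalso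
    obtain ⟨x, hx⟩ := exists_ne (1 : G)
    obtain ⟨y, rfl⟩ := hφ x
    exact hx (by rw [← MonoidHom.mem_ker, h]; exact Subgroup.mem_top y)

end Pair

/-- the recognition -/
theorem m12_or_psl33 {G : Type*} [Group G] [Finite G] {A B : Subgroup G} (D : Amalgam A B) (hgen : A ⊔ B = ⊤)
    (hA : A ≠ ⊤) :
    Cfsg.Spor.IsoM12 G ∨ Nonempty (G ≃* Matrix.ProjectiveSpecialLinearGroup (Fin 3) (ZMod 3)) := by
  have hr := extra_rels D
  obtain ⟨X, h, hc, hpA, hpB, cardA, centCR⟩ := D
  obtain ⟨r1, r2⟩ := hr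
  haveI : Nontrivial G := ⟨⟨X.c, 1, hc⟩⟩
  have htop : Subgroup.closure X.genSet = ⊤ := by
    rw [eq_top_iff, ← hgen, ← hpA, ← hpB, sup_le_iff]
    constructor <;> refine Subgroup.closure_mono ?_ <;>
      simp [Gens.genSet, Set.insert_subset_iff]
  have hp2 : ∀ z ∈ Subgroup.zpowers X.p, z = 1 ∨ z = X.p := by
    rintro z ⟨i, rfl⟩
    simp only []
    rcases Int.even_or_odd i with ⟨j, rfl⟩ | ⟨j, rfl⟩
    · left; rw [← two_mul, zpow_mul, zpow_ofNat, h.p2, one_zpow]
    · right; rw [zpow_add, zpow_one, zpow_mul, zpow_ofNat, h.p2, one_zpow, one_mul]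
  rcases hp2 _ r1 with e1 | e1 <;> rcases hp2 _ r2 with e2 | e2
  · left
    obtain ⟨Y, hY, hYtop, f1, f2⟩ := mTwelveModel
    haveI := mTwelve_simple
    refine iso_of_model (X := X) (Y := Y) htop hYtop ?_
    rw [mTwelve_card]
    exact (boundOne (restrictGens_rels (pairGens_rels h hY))
      (Subtype.ext (Prod.ext e1 f1)) (Subtype.ext (Prod.ext e2 f2)) (restrictGens_top _)).2
  · exact absurd (hpA ▸ (boundOneP h e1 e2 htop).2.2) hA
  · exact absurd (hpA ▸ (boundPOne h e1 e2 htop).2.2) hA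
  · right
    obtain ⟨Y, hY, hYtop, f1, f2⟩ := pslModel
    haveI : IsSimpleGroup (Matrix.ProjectiveSpecialLinearGroup (Fin 3) (ZMod 3)) := S0249.result 3 le_rfl
    refine iso_of_model (X := X) (Y := Y) htop hYtop ?_
    rw [card_psl33]
    exact (boundPP (restrictGens_rels (pairGens_rels h hY))
      (Subtype.ext (Prod.ext e1 f1)) (Subtype.ext (Prod.ext e2 f2)) (restrictGens_top _)).2

end Cfsg.Agent.MTwelveAmal
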