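import Mathlib

/-!
Generators of the amalgam of two copies of 3²:GL(2,3) over the normaliser of a root subgroup,
with the relations they satisfy in SL(3,3): `a b c d e` are the root elements
E12, E23, E13, E21, E32 and `p q` are diag(-1,-1,1), diag(1,-1,-1).
-/

set_option autoImplicit false

namespace Cfsg.Agent.MTwelveAmal

/-- the generators -/
structure Gens (G : Type*) where
  /-- E12 -/
  a : G
  /-- E23 -/
  b : G
  /-- E13 -/
  c : G
  /-- E21 -/
  d : G
  /-- E32 -/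
  e : G
  /-- central involution of the first Levi complement -/
  p : G
  /-- central involution of the second Levi complement -/
  q : G

variable {G : Type*} [Group G]

/-- the relations of both parabolics -/
structure Gens.Rels (X : Gens G) : Prop where
  a3 : X.a ^ 3 = 1
  b3 : X.b ^ 3 = 1
  c3 : X.c ^ 3 = 1
  d3 : X.d ^ 3 = 1
  e3 : X.e ^ 3 = 1
  p2 : X.p ^ 2 = 1
  q2 : X.q ^ 2 = 1
  pq : X.p * X.q = X.q * X.p
  ab : X.a⁻¹ * X.b⁻¹ * X.a * X.b = X.c
  ac : X.a * X.c = X.c * X.a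
  bc : X.b * X.c = X.c * X.b
  pa : X.p * X.a * X.p = X.a
  pb : X.p * X.b * X.p = X.b⁻¹
  pc : X.p * X.c * X.p = X.c⁻¹
  pd : X.p * X.d * X.p = X.d
  pe : X.p * X.e * X.p = X.e⁻¹
  qa : X.q * X.a * X.q = X.a⁻¹
  qb : X.q * X.b * X.q = X.b
  qc : X.q * X.c * X.q = X.c⁻¹
  qd : X.q * X.d * X.q = X.d⁻¹
  qe : X.q * X.e * X.q = X.e
  bd : X.b * X.d = X.d * X.b
  dc : X.d⁻¹ * X.c⁻¹ * X.d * X.c = X.b
  adBraid : X.a * X.d⁻¹ * X.a = X.d⁻¹ * X.a * X.d⁻¹
  adSq : (X.a * X.d⁻¹ * X.a) * (X.a * X.d⁻¹ * X.a) = X.p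
  ea : X.e * X.a = X.a * X.e
  ce : X.c⁻¹ * X.e⁻¹ * X.c * X.e = X.a
  beBraid : X.b * X.e⁻¹ * X.b = X.e⁻¹ * X.b * X.e⁻¹
  beSq : (X.b * X.e⁻¹ * X.b) * (X.b * X.e⁻¹ * X.b) = X.q

/-- the first parabolic -/
def Gens.parA (X : Gens G) : Subgroup G := Subgroup.closure {X.a, X.b, X.c, X.d, X.p, X.q}

/-- the second parabolic -/
def Gens.parB (X : Gens G) : Subgroup G := Subgroup.closure {X.a, X.b, X.c, X.e, X.p, X.q}

/-- a pair `A`, `B` of subgroups normalised by generators -/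
structure Amalgam (A B : Subgroup G) where
  /-- generators -/
  X : Gens G
  rels : X.Rels
  cne : X.c ≠ 1
  parA_eq : X.parA = A
  parB_eq : X.parB = B
  cardA : Nat.card A = 432
  /-- the centraliser of the central root element and the involution commuting with it -/
  centCR : Nat.card
    ↥(Subgroup.centralizer ({X.c} : Set G) ⊓ Subgroup.centralizer ({X.p * X.q} : Set G)) = 6

end Cfsg.Agent.MTwelveAmal
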