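import Cfsg.Agent.Lib.Spor.MTwelveAmal.Gens

/-!
One parabolic `3²:GL₂(3)`: coordinates on the normal plane, the complement centralising the central
involution, and the opposite root element.
-/

set_option autoImplicit false
set_option maxRecDepth 100000

namespace Cfsg.Agent.MTwelveAmal

open Matrix

/-- The plane. -/
abbrev P2 := Fin 2 → ZMod 3

/-- Two by two matrices. -/
abbrev M2 := Matrix (Fin 2) (Fin 2) (ZMod 3)

theorem mat_list : (!![1, 1; 0, 1] : M2) * !![1, 0; -1, 1] * !![1, 1; 0, 1] = !![1, 0; -1, 1] * !![1, 1; 0, 1] * !![1, 0; -1, 1] ∧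
    ((!![1, 1; 0, 1] : M2) * !![1, 0; -1, 1] * !![1, 1; 0, 1]) * (!![1, 1; 0, 1] * !![1, 0; -1, 1] * !![1, 1; 0, 1]) = -1 ∧
    (!![1, 0; 1, 1] : M2) * !![1, 0; -1, 1] = 1 ∧ (!![1, 0; 1, 1] : M2) * (-1) = (-1) * !![1, 0; 1, 1] ∧
    (!![-1, 0; 0, 1] : M2) * !![1, 0; 1, 1] * !![-1, 0; 0, 1] = !![1, 0; -1, 1] ∧
    (!![1, 0; 1, 1] : M2) * !![1, 0; 1, 1] * !![1, 0; 1, 1] = 1 ∧ (!![1, 0; 1, 1] : M2).det ≠ 0 := by
  decide +kernel

theorem gl_count : Nat.card {M : M2 // M.det ≠ 0} = 48 := by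
  rw [Nat.card_eq_fintype_card]
  decide +kernel

theorem gl_words : ∀ M : M2, M.det ≠ 0 → ∃ (a b c d : Fin 3) (k : Fin 2),
    M = !![1, 1; 0, 1] ^ a.val * !![1, 0; 1, 1] ^ b.val * !![1, 1; 0, 1] ^ c.val * !![1, 0; 1, 1] ^ d.val *
      !![-1, 0; 0, 1] ^ k.val := by
  decide +kernel

theorem stab_diag : ∀ M : M2, M.det ≠ 0 → M *ᵥ ![1, 0] = ![1, 0] →
    M * !![1, 0; 0, -1] = !![1, 0; 0, -1] * M → M = 1 ∨ M = !![1, 0; 0, -1] := by decide +kernel

theorem pq_mat : (-1 : M2) * !![-1, 0; 0, 1] = !![1, 0; 0, -1] ∧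
    ∀ v : P2, (!![1, 0; 0, -1] : M2) *ᵥ v = v → v = v 0 • ![1, 0] := by decide +kernel

theorem plane_combo : ∀ v : P2, v = (v 0).val • ![1, 0] + (v 1).val • ![0, 1] := by decide +kernel

theorem ker_det : ∀ M : M2, (∀ v : P2, M *ᵥ v = 0 → v = 0) → M.det ≠ 0 := by decide +kernel

theorem neg_fixed : ∀ v : P2, -v = v → v = 0 := by decide +kernel

theorem plane_cube : ∀ v : P2, v + v + v = 0 := by decide +kernel

theorem plane_double : ∀ v : P2, (-v) + (-v) = v := by decide +kernel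

variable {G : Type*} [Group G]

/-- A parabolic with adapted elements. -/
structure Half (A : Subgroup G) where
  V : Subgroup G
  le : V ≤ A
  nrm : ∀ g ∈ A, ∀ v ∈ V, g * v * g⁻¹ ∈ V
  exp : ∀ v ∈ V, v ^ 3 = 1
  comm : ∀ v ∈ V, ∀ w ∈ V, v * w = w * v
  cardV : Nat.card V = 9
  self : ∀ g ∈ A, (∀ v ∈ V, g * v = v * g) → g ∈ V
  cardA : Nat.card A = 432
  x : G
  z : G
  u : G
  p : G
  q : G
  xV : x ∈ V
  zV : z ∈ V
  uA : u ∈ A
  pA : p ∈ A
  qA : q ∈ A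
  zne : z ≠ 1
  xz : ∀ i : ℕ, x ≠ z ^ i
  pinv : ∀ v ∈ V, p * v * p = v⁻¹
  p2 : p * p = 1
  q2 : q * q = 1
  pq : p * q = q * p
  pu : p * u = u * p
  qx : q * x * q = x
  qz : q * z * q = z⁻¹
  uz : u * z * u⁻¹ = z
  ux : u * x * u⁻¹ = x * z

namespace Half

variable {A : Subgroup G} (H : Half A)

theorem z_cube : H.z ^ 3 = 1 := H.exp _ H.zV

theorem x_cube : H.x ^ 3 = 1 := H.exp _ H.xV

/-- The point with given coordinates. -/
def pt (v : P2) : G := H.z ^ (v 0).val * H.x ^ (v 1).val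

theorem pow_val_add {g : G} (hg : g ^ 3 = 1) (a b : ZMod 3) : g ^ (a + b).val = g ^ a.val * g ^ b.val := by
  rw [← pow_add, ZMod.val_add, ← pow_eq_pow_mod _ hg]

theorem pt_add (v w : P2) : H.pt (v + w) = H.pt v * H.pt w := by
  have hc : Commute (H.x ^ (v 1).val) (H.z ^ (w 0).val) :=
    (show Commute H.x H.z from H.comm _ H.xV _ H.zV).pow_pow _ _
  show H.z ^ (v 0 + w 0).val * H.x ^ (v 1 + w 1).val = _
  rw [pow_val_add H.z_cube, pow_val_add H.x_cube]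
  show _ = H.z ^ (v 0).val * H.x ^ (v 1).val * (H.z ^ (w 0).val * H.x ^ (w 1).val)
  rw [mul_assoc, mul_assoc, ← mul_assoc (H.x ^ (v 1).val), hc.eq, mul_assoc]

/-- The coordinates as a homomorphism. -/
def pth : Multiplicative P2 →* G := MonoidHom.mk' (fun v => H.pt v.toAdd) fun v w => H.pt_add v.toAdd w.toAdd

theorem pt_zero : H.pt 0 = 1 := map_one H.pth

theorem pt_neg (v : P2) : H.pt (-v) = (H.pt v)⁻¹ := map_inv H.pth (Multiplicative.ofAdd v)

theorem pt_nsmul (n : ℕ) (v : P2) : H.pt (n • v) = H.pt v ^ n := by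
  show H.pth (Multiplicative.ofAdd (n • v)) = _
  rw [ofAdd_nsmul, map_pow]
  rfl

theorem pt_one_zero : H.pt ![1, 0] = H.z := by simp [pt, ZMod.val_one]

theorem pt_zero_one : H.pt ![0, 1] = H.x := by simp [pt, ZMod.val_one]

theorem pt_mem (v : P2) : H.pt v ∈ H.V := H.V.mul_mem (H.V.pow_mem H.zV _) (H.V.pow_mem H.xV _)

theorem pt_eq_one {v : P2} (h : H.pt v = 1) : v = 0 := by
  have h1 : H.x ^ (v 1).val = (H.z ^ (v 0).val)⁻¹ := eq_inv_of_mul_eq_one_right h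
  have hz : (H.z ^ (v 0).val)⁻¹ = H.z ^ (2 * (v 0).val) := by
    refine inv_eq_of_mul_eq_one_right ?_
    rw [← pow_add, show (v 0).val + 2 * (v 0).val = 3 * (v 0).val by ring, pow_mul, H.z_cube, one_pow]
  rw [hz] at h1
  have hlt := ZMod.val_lt (v 1)
  have hv1 : (v 1).val = 0 := by
    by_contra hne
    have h2 : (v 1).val = 1 ∨ (v 1).val = 2 := by omega
    rcases h2 with h2 | h2 <;> rw [h2] at h1
    · exact H.xz _ (by rw [pow_one] at h1; exact h1)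
    · refine H.xz (2 * (v 0).val * 2) ?_
      rw [pow_mul, ← h1, ← pow_mul]
      calc H.x = H.x ^ 3 * H.x := by rw [H.x_cube, one_mul]
        _ = H.x ^ (2 * 2) := by rw [← pow_succ]
  rw [hv1, pow_zero] at h1
  have hlt0 := ZMod.val_lt (v 0)
  have hv0 : (v 0).val = 0 := by
    by_contra hne
    have h2 : (v 0).val = 1 ∨ (v 0).val = 2 := by omega
    rcases h2 with h2 | h2 <;> rw [h2] at h1
    · refine H.zne ?_
      calc H.z = H.z * H.z ^ (2 * 1) := by rw [← h1, mul_one]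
        _ = H.z ^ 3 := by rw [← pow_succ']
        _ = 1 := H.z_cube
    · refine H.zne ?_
      calc H.z = H.z * H.z ^ 3 := by rw [H.z_cube, mul_one]
        _ = H.z ^ (2 * 2) := by rw [← pow_succ']
        _ = 1 := h1.symm
  funext i
  fin_cases i
  · exact (ZMod.val_eq_zero _).1 hv0
  · exact (ZMod.val_eq_zero _).1 hv1

theorem pt_inj {v w : P2} (h : H.pt v = H.pt w) : v = w := by
  refine sub_eq_zero.1 (H.pt_eq_one ?_)
  rw [sub_eq_add_neg, H.pt_add, H.pt_neg, h, mul_inv_cancel]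

theorem exists_pt [Finite G] {g : G} (h : g ∈ H.V) : ∃ v, H.pt v = g := by
  let f : P2 → H.V := fun v => ⟨H.pt v, H.pt_mem v⟩
  have hf : Function.Injective f := fun v w e => H.pt_inj (congrArg Subtype.val e)
  have hb : Function.Bijective f := by
    rw [Nat.bijective_iff_injective_and_card]
    exact ⟨hf, by rw [H.cardV, Nat.card_eq_fintype_card]; rfl⟩
  obtain ⟨v, hv⟩ := hb.2 ⟨g, h⟩
  exact ⟨v, congrArg Subtype.val hv⟩

/-- An element acting on the plane by a matrix. -/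
def Acts (g : G) (M : M2) : Prop := ∀ v, g * H.pt v * g⁻¹ = H.pt (M *ᵥ v)

variable {H}

theorem Acts.mul {g h : G} {M N : M2} (hg : H.Acts g M) (hh : H.Acts h N) : H.Acts (g * h) (M * N) := fun v => by
  rw [← mulVec_mulVec, ← hg, ← hh]
  group

theorem Acts.one : H.Acts (1 : G) 1 := fun v => by rw [one_mulVec, one_mul, inv_one, mul_one]

theorem Acts.pow {g : G} {M : M2} (hg : H.Acts g M) : ∀ n : ℕ, H.Acts (g ^ n) (M ^ n)
  | 0 => by rw [pow_zero, pow_zero]; exact Acts.one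
  | n + 1 => by rw [pow_succ, pow_succ]; exact (Acts.pow hg n).mul hg

theorem Acts.unique {g : G} {M N : M2} (hg : H.Acts g M) (hh : H.Acts g N) : M = N :=
  Matrix.ext_iff_mulVec.2 fun v => H.pt_inj (by rw [← hg, ← hh])

theorem Acts.of_two {g : G} {M : M2} (h0 : g * H.z * g⁻¹ = H.pt (M *ᵥ ![1, 0]))
    (h1 : g * H.x * g⁻¹ = H.pt (M *ᵥ ![0, 1])) : H.Acts g M := by
  intro v
  rw [plane_combo v, mulVec_add, mulVec_smul, mulVec_smul, H.pt_add, H.pt_add, H.pt_nsmul, H.pt_nsmul, H.pt_nsmul,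
    H.pt_nsmul, H.pt_one_zero, H.pt_zero_one, ← h0, ← h1, conj_pow, conj_pow]
  group

theorem Acts.det_ne {g : G} {M : M2} (hg : H.Acts g M) : M.det ≠ 0 :=
  ker_det M fun v hv => H.pt_eq_one (by
    have h := hg v
    rw [hv, H.pt_zero, conj_eq_one_iff] at h
    exact h)

variable (H) [Finite G]

theorem exists_acts {g : G} (hg : g ∈ A) : ∃ M : M2, H.Acts g M := by
  obtain ⟨v, hv⟩ := H.exists_pt (H.nrm g hg _ H.zV)
  obtain ⟨w, hw⟩ := H.exists_pt (H.nrm g hg _ H.xV)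
  refine ⟨!![v 0, w 0; v 1, w 1], Acts.of_two ?_ ?_⟩
  · rw [← hv]
    exact congrArg H.pt (funext fun i => by fin_cases i <;> simp [Matrix.mulVec, dotProduct, Fin.sum_univ_two])
  · rw [← hw]
    exact congrArg H.pt (funext fun i => by fin_cases i <;> simp [Matrix.mulVec, dotProduct, Fin.sum_univ_two])

/-- The complement centralising the central involution. -/
def Comp : Subgroup G := A ⊓ Subgroup.centralizer ({H.p} : Set G)

theorem mem_comp {g : G} : g ∈ H.Comp ↔ g ∈ A ∧ g * H.p = H.p * g := by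
  rw [Comp, Subgroup.mem_inf, Subgroup.mem_centralizer_singleton_iff]

theorem p_inv : H.p⁻¹ = H.p := inv_eq_of_mul_eq_one_right H.p2

theorem comp_inter {g : G} (hV : g ∈ H.V) (hg : g ∈ H.Comp) : g = 1 := by
  obtain ⟨v, rfl⟩ := H.exists_pt hV
  have h1 := H.pinv _ hV
  rw [← (H.mem_comp.1 hg).2, mul_assoc, H.p2, mul_one, ← H.pt_neg] at h1
  rw [neg_fixed v (H.pt_inj h1).symm, H.pt_zero]

theorem eq_of_acts {g h : G} {M : M2} (hg : g ∈ H.Comp) (hh : h ∈ H.Comp) (ag : H.Acts g M) (ah : H.Acts h M) :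
    g = h := by
  have hk : h⁻¹ * g ∈ H.Comp := H.Comp.mul_mem (H.Comp.inv_mem hh) hg
  refine (inv_mul_eq_one.1 (H.comp_inter ?_ hk)).symm
  refine H.self _ (H.mem_comp.1 hk).1 fun v hv => ?_
  obtain ⟨w, rfl⟩ := H.exists_pt hv
  refine mul_inv_eq_iff_eq_mul.1 ?_
  calc h⁻¹ * g * H.pt w * (h⁻¹ * g)⁻¹ = h⁻¹ * (g * H.pt w * g⁻¹) * h := by group
    _ = h⁻¹ * (h * H.pt w * h⁻¹) * h := by rw [ag, ah]
    _ = _ := by group

theorem acts_p : H.Acts H.p (-1) := fun v => by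
  rw [H.p_inv, H.pinv _ (H.pt_mem v), neg_mulVec, one_mulVec, H.pt_neg]

theorem acts_pt_conj {g : G} (hg : g ∈ A) : (g * H.p * g⁻¹ * H.p) ∈ H.V := by
  refine H.self _ (A.mul_mem (A.mul_mem (A.mul_mem hg H.pA) (A.inv_mem hg)) H.pA) fun w hw => ?_
  have hw' : g⁻¹ * w⁻¹ * g ∈ H.V := by
    have := H.nrm g⁻¹ (A.inv_mem hg) _ (H.V.inv_mem hw)
    rwa [inv_inv] at this
  refine mul_inv_eq_iff_eq_mul.1 ?_
  calc g * H.p * g⁻¹ * H.p * w * (g * H.p * g⁻¹ * H.p)⁻¹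
      = g * (H.p * (g⁻¹ * (H.p * w * H.p⁻¹) * g) * H.p⁻¹) * g⁻¹ := by group
    _ = g * (g⁻¹ * w⁻¹ * g)⁻¹ * g⁻¹ := by rw [H.p_inv, H.pinv w hw, H.pinv _ hw']
    _ = w := by group

theorem exists_split {g : G} (hg : g ∈ A) : ∃ v ∈ H.V, ∃ h ∈ H.Comp, g = v * h := by
  obtain ⟨w, hw⟩ := H.exists_pt (H.acts_pt_conj hg)
  refine ⟨H.pt (-w), H.pt_mem _, (H.pt (-w))⁻¹ * g, ?_, by group⟩
  refine H.mem_comp.2 ⟨A.mul_mem (A.inv_mem (H.le (H.pt_mem _))) hg, ?_⟩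
  have hu : H.pt (-w) * H.p = H.p * (H.pt (-w))⁻¹ := by
    rw [← H.pinv _ (H.pt_mem (-w)), ← mul_assoc, ← mul_assoc, H.p2, one_mul]
  have h1 : g * H.p * g⁻¹ = H.pt w * H.p := by
    rw [hw, mul_assoc _ H.p H.p, H.p2, mul_one]
  calc (H.pt (-w))⁻¹ * g * H.p = (H.pt (-w))⁻¹ * (g * H.p * g⁻¹) * g := by group
    _ = (H.pt (-w))⁻¹ * (H.pt w * H.p) * g := by rw [h1]
    _ = H.pt (w + w) * H.p * g := by rw [← H.pt_neg, neg_neg, ← mul_assoc, ← H.pt_add]
    _ = H.pt (-w) * H.p * g := by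
      rw [show w + w = -w from by conv_rhs => rw [← plane_double w, neg_add, neg_neg]]
    _ = _ := by rw [hu, mul_assoc]

/-- Every invertible matrix is induced in the complement. -/
theorem exists_of_mat {M : M2} (hM : M.det ≠ 0) : ∃ g ∈ H.Comp, H.Acts g M := by
  choose f hf using fun g : H.Comp => H.exists_acts (H.mem_comp.1 g.2).1
  let τ : H.Comp → {M : M2 // M.det ≠ 0} := fun g => ⟨f g, (hf g).det_ne⟩
  have hinj : Function.Injective τ := fun g h e => Subtype.ext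
    (H.eq_of_acts g.2 h.2 (hf g) ((show f g = f h from congrArg Subtype.val e) ▸ hf h))
  have hsurj : Function.Surjective (fun w : H.V × H.Comp =>
      (⟨(w.1 : G) * w.2, A.mul_mem (H.le w.1.2) (H.mem_comp.1 w.2.2).1⟩ : A)) := fun g => by
    obtain ⟨v, hv, h, hh, e⟩ := H.exists_split g.2
    exact ⟨(⟨v, hv⟩, ⟨h, hh⟩), Subtype.ext e.symm⟩
  have hle := Nat.card_le_card_of_surjective _ hsurj
  rw [H.cardA, Nat.card_prod, H.cardV] at hle
  have hge := Nat.card_le_card_of_injective τ hinj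
  rw [gl_count] at hge
  have hb : Function.Bijective τ := by
    rw [Nat.bijective_iff_injective_and_card]
    exact ⟨hinj, by rw [gl_count]; omega⟩
  obtain ⟨g, hg⟩ := hb.2 ⟨M, hM⟩
  exact ⟨g, g.2, (show f g = M from congrArg Subtype.val hg) ▸ hf g⟩

theorem u_comp : H.u ∈ H.Comp := H.mem_comp.2 ⟨H.uA, H.pu.symm⟩

theorem q_comp : H.q ∈ H.Comp := H.mem_comp.2 ⟨H.qA, H.pq.symm⟩

theorem p_comp : H.p ∈ H.Comp := H.mem_comp.2 ⟨H.pA, rfl⟩

theorem acts_q : H.Acts H.q !![-1, 0; 0, 1] := by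
  have hqi : H.q⁻¹ = H.q := inv_eq_of_mul_eq_one_right H.q2
  refine Acts.of_two ?_ ?_
  · rw [hqi, H.qz, ← H.pt_one_zero, ← H.pt_neg]
    exact congrArg H.pt (funext fun i => by fin_cases i <;> simp [Matrix.mulVec, dotProduct, Fin.sum_univ_two])
  · rw [hqi, H.qx, ← H.pt_zero_one]
    exact congrArg H.pt (funext fun i => by fin_cases i <;> simp [Matrix.mulVec, dotProduct, Fin.sum_univ_two])

theorem acts_u : H.Acts H.u !![1, 1; 0, 1] := by
  refine Acts.of_two ?_ ?_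
  · rw [H.uz, ← H.pt_one_zero]
    exact congrArg H.pt (funext fun i => by fin_cases i <;> simp [Matrix.mulVec, dotProduct, Fin.sum_univ_two])
  · rw [H.ux, ← H.pt_zero_one, ← H.pt_one_zero, ← H.pt_add]
    exact congrArg H.pt (funext fun i => by fin_cases i <;> simp [Matrix.mulVec, dotProduct, Fin.sum_univ_two])

/-- The relations of the opposite root element. -/
structure Opp (d : G) : Prop where
  cube : d ^ 3 = 1
  pd : H.p * d * H.p = d
  qd : H.q * d * H.q = d⁻¹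
  xd : H.x * d = d * H.x
  dz : d⁻¹ * H.z⁻¹ * d * H.z = H.x
  braid : H.u * d⁻¹ * H.u = d⁻¹ * H.u * d⁻¹
  sq : (H.u * d⁻¹ * H.u) * (H.u * d⁻¹ * H.u) = H.p
  gen : Subgroup.closure {H.u, H.x, H.z, d, H.p, H.q} = A

theorem exists_opp : ∃ d, H.Opp d := by
  obtain ⟨m1, m2, m3, m4, m5, m6, m7⟩ := mat_list
  obtain ⟨d, hd, ad⟩ := H.exists_of_mat m7
  have hdi : d⁻¹ ∈ H.Comp := H.Comp.inv_mem hd
  have adi : H.Acts d⁻¹ !![1, 0; -1, 1] := by
    obtain ⟨N, hN⟩ := H.exists_acts (H.mem_comp.1 hdi).1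
    have h1 : N * !![1, 0; 1, 1] = 1 := (hN.mul ad).unique (by rw [inv_mul_cancel]; exact Acts.one)
    have h2 : N = !![1, 0; -1, 1] := by
      calc N = N * (!![1, 0; 1, 1] * !![1, 0; -1, 1]) := by rw [m3, mul_one]
        _ = _ := by rw [← mul_assoc, h1, one_mul]
    exact h2 ▸ hN
  have hu := H.u_comp
  have hp := H.p_comp
  have hq := H.q_comp
  have hxd : d * H.x * d⁻¹ = H.x := by
    rw [← H.pt_zero_one, ad]
    exact congrArg H.pt (funext fun i => by fin_cases i <;> simp [Matrix.mulVec, dotProduct, Fin.sum_univ_two])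
  have hzd : d * H.z * d⁻¹ = H.z * H.x := by
    rw [← H.pt_one_zero, ad, ← H.pt_zero_one, ← H.pt_add]
    exact congrArg H.pt (funext fun i => by fin_cases i <;> simp [Matrix.mulVec, dotProduct, Fin.sum_univ_two])
  refine ⟨d, ⟨?_, ?_, ?_, ?_, ?_, ?_, ?_, ?_⟩⟩
  · refine H.eq_of_acts (H.Comp.pow_mem hd 3) H.Comp.one_mem ?_ Acts.one
    have h := ad.pow 3
    rwa [show (!![1, 0; 1, 1] : M2) ^ 3 = 1 by rw [pow_succ, pow_two, m6]] at h
  · rw [← (H.mem_comp.1 hd).2, mul_assoc, H.p2, mul_one]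
  · exact H.eq_of_acts (H.Comp.mul_mem (H.Comp.mul_mem hq hd) hq) hdi (m5 ▸ (H.acts_q.mul ad).mul H.acts_q) adi
  · exact (mul_inv_eq_iff_eq_mul.1 hxd).symm
  · have h := adi ![1, 0]
    rw [H.pt_one_zero, inv_inv] at h
    have h' : d⁻¹ * H.z⁻¹ * d = H.z⁻¹ * H.x := by
      calc d⁻¹ * H.z⁻¹ * d = (d⁻¹ * H.z * d)⁻¹ := by group
        _ = _ := by
          rw [h, ← H.pt_neg, ← H.pt_one_zero, ← H.pt_neg, ← H.pt_zero_one, ← H.pt_add]
          exact congrArg H.pt (funext fun i => by fin_cases i <;> simp [Matrix.mulVec, dotProduct, Fin.sum_univ_two])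
    rw [h', H.comm _ (H.V.mul_mem (H.V.inv_mem H.zV) H.xV) _ H.zV, mul_inv_cancel_left]
  · exact H.eq_of_acts (H.Comp.mul_mem (H.Comp.mul_mem hu hdi) hu) (H.Comp.mul_mem (H.Comp.mul_mem hdi hu) hdi)
      ((H.acts_u.mul adi).mul H.acts_u) (m1 ▸ (adi.mul H.acts_u).mul adi)
  · exact H.eq_of_acts (H.Comp.mul_mem (H.Comp.mul_mem (H.Comp.mul_mem hu hdi) hu) (H.Comp.mul_mem (H.Comp.mul_mem hu hdi) hu))
      hp (m2 ▸ ((H.acts_u.mul adi).mul H.acts_u).mul ((H.acts_u.mul adi).mul H.acts_u)) H.acts_p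
  · refine le_antisymm ((Subgroup.closure_le _).2 ?_) fun g hg => ?_
    · rintro y (rfl | rfl | rfl | rfl | rfl | rfl)
      exacts [H.uA, H.le H.xV, H.le H.zV, (H.mem_comp.1 hd).1, H.pA, H.qA]
    set K := Subgroup.closure {H.u, H.x, H.z, d, H.p, H.q} with hK
    have k1 : H.u ∈ K := Subgroup.subset_closure (by simp)
    have k2 : H.x ∈ K := Subgroup.subset_closure (by simp)
    have k3 : H.z ∈ K := Subgroup.subset_closure (by simp)
    have k4 : d ∈ K := Subgroup.subset_closure (by simp)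
    have k5 : H.q ∈ K := Subgroup.subset_closure (by simp)
    obtain ⟨v, hv, h, hh, rfl⟩ := H.exists_split hg
    obtain ⟨w, rfl⟩ := H.exists_pt hv
    refine K.mul_mem (K.mul_mem (K.pow_mem k3 _) (K.pow_mem k2 _)) ?_
    obtain ⟨M, hM⟩ := H.exists_acts (H.mem_comp.1 hh).1
    obtain ⟨a, b, c, e, k, hw⟩ := gl_words M hM.det_ne
    have hA := ((((H.acts_u.pow a.val).mul (ad.pow b.val)).mul (H.acts_u.pow c.val)).mul (ad.pow e.val)).mul
      (H.acts_q.pow k.val)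
    rw [← hw] at hA
    rw [H.eq_of_acts hh (H.Comp.mul_mem (H.Comp.mul_mem (H.Comp.mul_mem (H.Comp.mul_mem (H.Comp.pow_mem hu _)
      (H.Comp.pow_mem hd _)) (H.Comp.pow_mem hu _)) (H.Comp.pow_mem hd _)) (H.Comp.pow_mem hq _)) hM hA]
    exact K.mul_mem (K.mul_mem (K.mul_mem (K.mul_mem (K.pow_mem k1 _) (K.pow_mem k4 _)) (K.pow_mem k1 _))
      (K.pow_mem k4 _)) (K.pow_mem k5 _)

/-- The centraliser of the central root element and of the product of the two involutions in the parabolic. -/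
theorem cent_form {g : G} (hg : g ∈ A) (hz : g * H.z = H.z * g) (hpq : g * (H.p * H.q) = (H.p * H.q) * g) :
    ∃ (i : Fin 3) (j : Fin 2), g = H.z ^ i.val * (H.p * H.q) ^ j.val := by
  obtain ⟨v, hv, h, hh, rfl⟩ := H.exists_split hg
  obtain ⟨w, rfl⟩ := H.exists_pt hv
  obtain ⟨M, hM⟩ := H.exists_acts (H.mem_comp.1 hh).1
  set r := H.p * H.q with hr
  have hrC : r ∈ H.Comp := H.Comp.mul_mem H.p_comp H.q_comp
  have hrA : H.Acts r !![1, 0; 0, -1] := pq_mat.1 ▸ H.acts_p.mul H.acts_q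
  have hfix : M *ᵥ ![1, 0] = ![1, 0] := by
    refine H.pt_inj ?_
    rw [← hM, H.pt_one_zero]
    have hc : Commute (H.pt w) H.z := H.comm _ (H.pt_mem w) _ H.zV
    calc h * H.z * h⁻¹ = (H.pt w)⁻¹ * ((H.pt w * h) * H.z) * h⁻¹ := by group
      _ = (H.pt w)⁻¹ * H.z * H.pt w := by rw [hz]; group
      _ = H.z := by rw [mul_assoc, ← hc.eq, inv_mul_cancel_left]
  have hV : (h * r) * (r * h)⁻¹ ∈ H.V := by
    have e : (h * r) * (r * h)⁻¹ = (H.pt w)⁻¹ * (r * H.pt w * r⁻¹) := by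
      calc (h * r) * (r * h)⁻¹ = (H.pt w)⁻¹ * ((H.pt w * h) * r) * (r * h)⁻¹ := by group
        _ = _ := by rw [hpq]; group
    rw [e, hrA]
    exact H.V.mul_mem (H.V.inv_mem (H.pt_mem _)) (H.pt_mem _)
  have hcomm : h * r = r * h := mul_inv_eq_one.1 (H.comp_inter hV
    (H.Comp.mul_mem (H.Comp.mul_mem hh hrC) (H.Comp.inv_mem (H.Comp.mul_mem hrC hh))))
  have hw0 : w = w 0 • ![1, 0] := by
    refine pq_mat.2 w (H.pt_inj ?_)
    rw [← hrA]
    refine mul_inv_eq_iff_eq_mul.2 (mul_right_cancel (b := h) ?_)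
    rw [mul_assoc, ← hpq, mul_assoc, hcomm, ← mul_assoc]
  have hMr : M * !![1, 0; 0, -1] = !![1, 0; 0, -1] * M := by
    have h1 := hM.mul hrA
    rw [hcomm] at h1
    exact h1.unique (hrA.mul hM)
  have hwpt : H.pt w = H.z ^ (w 0).val := by
    conv_lhs => rw [hw0]
    simp [pt]
  rcases stab_diag M hM.det_ne hfix hMr with e | e <;> subst e
  · refine ⟨⟨(w 0).val, ZMod.val_lt _⟩, 0, ?_⟩
    rw [H.eq_of_acts hh H.Comp.one_mem hM Acts.one, mul_one, hwpt]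
    simp
  · refine ⟨⟨(w 0).val, ZMod.val_lt _⟩, 1, ?_⟩
    rw [H.eq_of_acts hh hrC hM hrA, hwpt]
    simp

end Half

end Cfsg.Agent.MTwelveAmal
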