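import Cfsg.Agent.Lib.Spor.MTwelveAmal.Half
import Cfsg.Prelude.Def_Solvable
import Cfsg.Prelude.Def_CaseTheorems

/-!
From two parabolics `3²:GL₂(3)` over the normaliser of the centre of a Sylow subgroup to generators with the
relations of the amalgam.
-/

set_option autoImplicit false
set_option maxRecDepth 100000

namespace Cfsg.Agent.MTwelveAmal

/-- The normal plane of a parabolic. -/
structure Plane {G : Type*} [Group G] (A : Subgroup G) where
  V : Subgroup G
  le : V ≤ A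
  nrm : ∀ g ∈ A, ∀ v ∈ V, g * v * g⁻¹ ∈ V
  exp : ∀ v ∈ V, v ^ 3 = 1
  comm : ∀ v ∈ V, ∀ w ∈ V, v * w = w * v
  cardV : Nat.card V = 9
  self : ∀ g ∈ A, (∀ v ∈ V, g * v = v * g) → g ∈ V
  cardA : Nat.card A = 432
  big : ∀ T : Subgroup G, T ≤ A → Nat.card T = 27 → V ≤ T
  invol : ∃ t ∈ A, t * t = 1 ∧ ∀ v ∈ V, t * v * t = v⁻¹

theorem card_gl_two : Nat.card (GL (Fin 2) (ZMod 3)) = 48 := by
  haveI : Fact (Nat.Prime 3) := ⟨Nat.prime_three⟩
  rw [Matrix.card_GL_field, Fin.prod_univ_two, ZMod.card]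
  norm_num

theorem gl_two_ne : ∃ x y : GL (Fin 2) (ZMod 3), x * y ≠ y * x := by
  refine ⟨⟨!![1, 1; 0, 1], !![1, -1; 0, 1], by decide, by decide⟩, ⟨!![1, 0; 1, 1], !![1, 0; -1, 1], by decide, by decide⟩,
    fun h => ?_⟩
  have := congrArg (fun g : GL (Fin 2) (ZMod 3) => (g : Matrix (Fin 2) (Fin 2) (ZMod 3)) 0 0) h
  revert this
  decide

theorem neg_one_gl : (-1 : GL (Fin 2) (ZMod 3)) * -1 = 1 ∧ (-1 : GL (Fin 2) (ZMod 3)) ≠ 1 := by
  refine ⟨neg_mul_neg _ _ |>.trans (one_mul _), fun h => ?_⟩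
  have := congrArg (fun g : GL (Fin 2) (ZMod 3) => (g : Matrix (Fin 2) (Fin 2) (ZMod 3)) 0 0) h
  simp at this
  exact absurd this (by decide)

variable {G : Type*} [Group G] [Finite G]

theorem small_cases {L : Subgroup G} {V : Subgroup G} (hLV : L ≤ V) (hV : Nat.card V = 9) (hne : L ≠ V) :
    Nat.card L ∣ 3 := by
  have hd := Subgroup.card_dvd_of_le hLV
  rw [hV] at hd
  obtain ⟨k, hk, e⟩ := (Nat.dvd_prime_pow Nat.prime_three).1 (show Nat.card L ∣ 3 ^ 2 from hd)
  have hk2 : k ≠ 2 := by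
    rintro rfl
    exact hne (Subgroup.eq_of_le_of_card_ge hLV (by rw [hV, e]; norm_num))
  rw [e]
  calc 3 ^ k ∣ 3 ^ 1 := Nat.pow_dvd_pow 3 (by omega)
    _ = 3 := rfl

theorem conj_commute_on {L : Subgroup G} (hL : Nat.card L ∣ 3) {g h : G} (hg : ∀ l ∈ L, g * l * g⁻¹ ∈ L)
    (hh : ∀ l ∈ L, h * l * h⁻¹ ∈ L) {l : G} (hl : l ∈ L) : (g * h) * l * (g * h)⁻¹ = (h * g) * l * (h * g)⁻¹ := by
  rcases (Nat.dvd_prime Nat.prime_three).1 hL with h1 | h3
  · rw [Subgroup.card_eq_one] at h1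
    rw [h1, Subgroup.mem_bot] at hl
    rw [hl]
    group
  · haveI : Fact (Nat.Prime 3) := ⟨Nat.prime_three⟩
    by_cases hl1 : l = 1
    · rw [hl1]; group
    have hgen : Subgroup.zpowers (⟨l, hl⟩ : L) = ⊤ :=
      zpowers_eq_top_of_prime_card h3 (fun e => hl1 (congrArg Subtype.val e))
    have hp : ∀ {k : G}, (∀ l ∈ L, k * l * k⁻¹ ∈ L) → ∃ i : ℤ, k * l * k⁻¹ = l ^ i := fun {k} hk => by
      obtain ⟨i, hi⟩ := Subgroup.mem_zpowers_iff.1 (hgen ▸ Subgroup.mem_top (⟨_, hk l hl⟩ : L))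
      exact ⟨i, by rw [← Subgroup.coe_zpow L ⟨l, hl⟩ i, hi]⟩
    obtain ⟨i, hi⟩ := hp hg
    obtain ⟨j, hj⟩ := hp hh
    calc (g * h) * l * (g * h)⁻¹ = g * (h * l * h⁻¹) * g⁻¹ := by group
      _ = (g * l * g⁻¹) ^ j := by rw [hj, conj_zpow]
      _ = (h * l * h⁻¹) ^ i := by rw [hi, hj, ← zpow_mul, ← zpow_mul, mul_comm]
      _ = h * (g * l * g⁻¹) * h⁻¹ := by rw [hi, conj_zpow]
      _ = _ := by group

/-- The plane of a parabolic. -/
theorem exists_plane (A : Subgroup G) {O : Subgroup A} [O.Normal] (eA : A ⧸ O ≃* GL (Fin 2) (ZMod 3))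
    (hOA : IsMulCommutative O ∧ (∀ x ∈ O, x ^ 3 = 1) ∧ Nat.card O = 9 ∧
      Subgroup.centralizer (O : Set A) = O) : Nonempty (Plane A) := by
  classical
  haveI : Fact (Nat.Prime 3) := ⟨Nat.prime_three⟩
  obtain ⟨hc, he, h9, hself⟩ := hOA
  set V := O.map A.subtype with hV
  have memV : ∀ {g : G}, g ∈ V ↔ ∃ h : g ∈ A, (⟨g, h⟩ : A) ∈ O := fun {g} => by
    constructor
    · rintro ⟨x, hx, rfl⟩; exact ⟨x.2, hx⟩
    · rintro ⟨h, hx⟩; exact ⟨⟨g, h⟩, hx, rfl⟩
  have hnO : ∀ (g : A) (v : A), v ∈ O → g * v * g⁻¹ ∈ O := fun g v hv =>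
    (inferInstance : O.Normal).conj_mem v hv g
  have hle : V ≤ A := fun g hg => (memV.1 hg).1
  have hnrm : ∀ g ∈ A, ∀ v ∈ V, g * v * g⁻¹ ∈ V := fun g hg v hv => by
    obtain ⟨h, hx⟩ := memV.1 hv
    exact memV.2 ⟨A.mul_mem (A.mul_mem hg h) (A.inv_mem hg), hnO ⟨g, hg⟩ _ hx⟩
  have hexp : ∀ v ∈ V, v ^ 3 = 1 := fun v hv => by
    obtain ⟨h, hx⟩ := memV.1 hv
    exact congrArg Subtype.val (he _ hx)
  have hcomm : ∀ v ∈ V, ∀ w ∈ V, v * w = w * v := fun v hv w hw => by
    obtain ⟨h, hx⟩ := memV.1 hv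
    obtain ⟨h', hx'⟩ := memV.1 hw
    exact congrArg (fun y : O => ((y : A) : G)) (hc.is_comm.comm ⟨_, hx⟩ ⟨_, hx'⟩)
  have hcardV : Nat.card V = 9 := by rw [hV, Subgroup.card_map_of_injective A.subtype_injective, h9]
  have hs : ∀ g ∈ A, (∀ v ∈ V, g * v = v * g) → g ∈ V := fun g hg h => by
    refine memV.2 ⟨hg, hself.le (Subgroup.mem_centralizer_iff.2 fun v hv => Subtype.ext ?_)⟩
    exact (h v (memV.2 ⟨v.2, hv⟩)).symm
  have hcardA : Nat.card A = 432 := by
    rw [Subgroup.card_eq_card_quotient_mul_card_subgroup O, Nat.card_congr eA.toEquiv, card_gl_two, h9]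
  have hbig : ∀ T : Subgroup G, T ≤ A → Nat.card T = 27 → V ≤ T := by
    intro T hT h27
    have hTc : Nat.card (T.subgroupOf A) = 27 := by rw [Nat.card_congr (Subgroup.subgroupOfEquivOfLe hT).toEquiv, h27]
    have hp : IsPGroup 3 ↥(T.subgroupOf A ⊔ O) :=
      IsPGroup.to_sup_of_normal_right (IsPGroup.of_card (n := 3) (by rw [hTc]; norm_num))
        (IsPGroup.of_card (n := 2) (by rw [h9]; norm_num))
    obtain ⟨k, hk⟩ := IsPGroup.iff_card.1 hp
    have hd : 3 ^ k ∣ 432 := hcardA ▸ hk ▸ Subgroup.card_subgroup_dvd_card _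
    have hk3 : k ≤ 3 := by
      by_contra h4
      have : 3 ^ 4 ∣ 432 := (Nat.pow_dvd_pow 3 (by omega)).trans hd
      norm_num at this
    have heq : T.subgroupOf A = T.subgroupOf A ⊔ O := Subgroup.eq_of_le_of_card_ge le_sup_left (by
      rw [hk, hTc]
      calc 3 ^ k ≤ 3 ^ 3 := Nat.pow_le_pow_right (by norm_num) hk3
        _ = 27 := rfl)
    intro g hg
    obtain ⟨h, hx⟩ := memV.1 hg
    exact Subgroup.mem_subgroupOf.1 (heq ▸ (le_sup_right : O ≤ _) hx : (⟨g, h⟩ : A) ∈ T.subgroupOf A)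
  -- the central involution
  obtain ⟨g0, hg0⟩ := QuotientGroup.mk_surjective (eA.symm (-1))
  set t := g0 ^ 27 with ht
  have hq0 : eA (QuotientGroup.mk g0) = -1 := by rw [hg0, MulEquiv.apply_symm_apply]
  have ht2 : (t : G) * t = 1 := by
    have h1 : g0 * g0 ∈ O := (QuotientGroup.eq_one_iff _).1 (eA.injective (by
      rw [QuotientGroup.mk_mul, map_mul, hq0, neg_one_gl.1, map_one]))
    have h2 : t * t = 1 := by
      rw [ht, ← pow_add, show 27 + 27 = 2 * (3 * 9) from rfl, pow_mul, pow_two, pow_mul, he _ h1, one_pow]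
    exact congrArg Subtype.val h2
  have htq : eA (QuotientGroup.mk t) = -1 := by
    rw [ht, QuotientGroup.mk_pow, map_pow, hq0, show 27 = 2 * 13 + 1 from rfl, pow_succ, pow_mul, pow_two,
      neg_one_gl.1, one_pow, one_mul]
  have hti : (t : G)⁻¹ = t := inv_eq_of_mul_eq_one_right ht2
  have tconj : ∀ v ∈ V, (t : G) * v * t ∈ V := fun v hv => by
    have := hnrm _ t.2 v hv
    rwa [hti] at this
  have ttt : ∀ v : G, (t : G) * ((t : G) * v * t) * t = v := fun v => by
    calc _ = ((t : G) * t) * v * ((t : G) * t) := by group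
      _ = v := by rw [ht2, one_mul, mul_one]
  let Lp : Subgroup G :=
    { carrier := {v | v ∈ V ∧ (t : G) * v = v * t}
      one_mem' := ⟨V.one_mem, by rw [mul_one, one_mul]⟩
      mul_mem' := fun ha hb => ⟨V.mul_mem ha.1 hb.1, (show Commute (t : G) _ from ha.2).mul_right hb.2⟩
      inv_mem' := fun ha => ⟨V.inv_mem ha.1, (show Commute (t : G) _ from ha.2).inv_right⟩ }
  let Lm : Subgroup G :=
    { carrier := {v | v ∈ V ∧ (t : G) * v * t = v⁻¹}
      one_mem' := ⟨V.one_mem, by rw [mul_one, ht2, inv_one]⟩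
      mul_mem' := fun {a b} ha hb => ⟨V.mul_mem ha.1 hb.1, by
        calc (t : G) * (a * b) * t = ((t : G) * a * t) * ((t : G) * b * t) := by
              calc _ = (t : G) * a * ((t : G) * t) * b * t := by rw [ht2]; group
                _ = _ := by group
          _ = a⁻¹ * b⁻¹ := by rw [ha.2, hb.2]
          _ = (a * b)⁻¹ := by rw [hcomm a ha.1 b hb.1, mul_inv_rev]⟩
      inv_mem' := fun {a} ha => ⟨V.inv_mem ha.1, by
        rw [inv_inv]
        calc (t : G) * a⁻¹ * t = ((t : G)⁻¹ * a * (t : G)⁻¹)⁻¹ := by group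
          _ = a := by rw [hti, ha.2, inv_inv]⟩ }
  have hsplit : ∀ v ∈ V, v * ((t : G) * v * t) ∈ Lp ∧ v * ((t : G) * v * t)⁻¹ ∈ Lm ∧
      (v * ((t : G) * v * t)) * (v * ((t : G) * v * t)⁻¹) = v ^ 2 := by
    intro v hv
    have hw := tconj v hv
    refine ⟨⟨V.mul_mem hv hw, ?_⟩, ⟨V.mul_mem hv (V.inv_mem hw), ?_⟩, ?_⟩
    · rw [hcomm v hv _ hw]
      calc (t : G) * ((t : G) * v * t * v) = ((t : G) * t) * v * t * v := by group
        _ = v * t * v * ((t : G) * t) := by rw [ht2, one_mul, mul_one]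
        _ = (v * ((t : G) * v * t)) * t := by group
        _ = _ := by rw [hcomm v hv _ hw]
    · calc (t : G) * (v * ((t : G) * v * t)⁻¹) * t
          = (t : G) * v * (t : G)⁻¹ * v⁻¹ := by group
        _ = ((t : G) * v * t) * v⁻¹ := by rw [hti]
        _ = _ := by rw [mul_inv_rev, inv_inv]
    · rw [mul_assoc v, ← mul_assoc _ v, hcomm _ hw v hv, mul_assoc v, mul_inv_cancel, mul_one, pow_two]
  have htO : t ∉ O := fun h => neg_one_gl.2 (by rw [← htq, (QuotientGroup.eq_one_iff _).2 h, map_one])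
  have hinv : ∀ v ∈ V, (t : G) * v * t = v⁻¹ := by
    by_contra hno
    have hm : Lm ≠ V := fun e => hno fun v hv => (show v ∈ Lm from e ▸ hv).2
    have hpne : Lp ≠ V := fun e => htO (by
      obtain ⟨h, hx⟩ := memV.1 (hs _ t.2 fun v hv => (show v ∈ Lp from e ▸ hv).2)
      exact hx)
    have cp := small_cases (L := Lp) (fun v hv => hv.1) hcardV hpne
    have cm := small_cases (L := Lm) (fun v hv => hv.1) hcardV hm
    obtain ⟨X, Y, hXY⟩ := gl_two_ne
    obtain ⟨x, hx⟩ := QuotientGroup.mk_surjective (eA.symm X)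
    obtain ⟨y, hy⟩ := QuotientGroup.mk_surjective (eA.symm Y)
    have inv : ∀ g : A, (∀ l ∈ Lp, (g : G) * l * (g : G)⁻¹ ∈ Lp) ∧ ∀ l ∈ Lm, (g : G) * l * (g : G)⁻¹ ∈ Lm := by
      intro g
      have hcen : g⁻¹ * t * g * t⁻¹ ∈ O := (QuotientGroup.eq_one_iff _).1 (eA.injective (by
        simp only [QuotientGroup.mk_mul, QuotientGroup.mk_inv, map_mul, map_inv, htq, map_one]
        rw [mul_neg, mul_one, neg_mul, inv_mul_cancel, mul_inv_eq_one]))
      set w : A := g⁻¹ * t * g * t⁻¹ with hwdef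
      have hwV : (w : G) ∈ V := memV.2 ⟨w.2, hcen⟩
      have hmove : ∀ l ∈ V, (g : G)⁻¹ * t * g * l * ((g : G)⁻¹ * t * g)⁻¹ = (t : G) * l * t := by
        intro l hl
        have e : (g : G)⁻¹ * t * g = (w : G) * t := by
          rw [hwdef]
          simp only [Subgroup.coe_mul, Subgroup.coe_inv]
          group
        rw [e, mul_inv_rev, hti]
        calc (w : G) * t * l * ((t : G) * (w : G)⁻¹) = (w : G) * ((t : G) * l * t) * (w : G)⁻¹ := by group
          _ = _ := by rw [hcomm _ hwV _ (tconj l hl), mul_inv_cancel_right]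
      have hmain : ∀ l ∈ V, (t : G) * ((g : G) * l * (g : G)⁻¹) * t = (g : G) * ((t : G) * l * t) * (g : G)⁻¹ := by
        intro l hl
        rw [← hmove l hl]
        have : (t : G)⁻¹ = t := hti
        calc _ = (t : G) * ((g : G) * l * (g : G)⁻¹) * (t : G)⁻¹ := by rw [this]
          _ = _ := by group
      constructor
      · rintro l ⟨hlV, hlt⟩
        refine ⟨hnrm _ g.2 l hlV, ?_⟩
        refine mul_inv_eq_iff_eq_mul.1 ?_
        rw [hti, hmain l hlV, hlt, mul_assoc l, ht2, mul_one]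
      · rintro l ⟨hlV, hlt⟩
        refine ⟨hnrm _ g.2 l hlV, ?_⟩
        rw [hmain l hlV, hlt]
        group
    refine hXY ?_
    have hcv : ∀ v ∈ V, ((x * y : A) : G) * v * ((x * y : A) : G)⁻¹ = ((y * x : A) : G) * v * ((y * x : A) : G)⁻¹ := by
      intro v hv
      obtain ⟨h1, h2, h3⟩ := hsplit v hv
      have hv4 : v = (v ^ 2) ^ 2 := by rw [← pow_mul, show 2 * 2 = 3 + 1 from rfl, pow_succ, hexp v hv, one_mul]
      have e2 : ((x * y : A) : G) * v ^ 2 * ((x * y : A) : G)⁻¹ = ((y * x : A) : G) * v ^ 2 * ((y * x : A) : G)⁻¹ := by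
        simp only [Subgroup.coe_mul]
        rw [← h3]
        generalize v * ((t : G) * v * t) = l1 at h1 ⊢
        generalize v * ((t : G) * v * t)⁻¹ = l2 at h2 ⊢
        rw [← conj_mul, ← conj_mul, conj_commute_on cp (inv x).1 (inv y).1 h1,
          conj_commute_on cm (inv x).2 (inv y).2 h2]
      rw [hv4, ← conj_pow, e2, conj_pow]
    have hmem : ((y * x)⁻¹ * (x * y) : A) ∈ O := by
      obtain ⟨h, hx⟩ := memV.1 (hs _ ((y * x)⁻¹ * (x * y) : A).2 fun v hv => by
        refine mul_inv_eq_iff_eq_mul.1 ?_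
        calc (((y * x)⁻¹ * (x * y) : A) : G) * v * (((y * x)⁻¹ * (x * y) : A) : G)⁻¹
            = ((y * x : A) : G)⁻¹ * (((x * y : A) : G) * v * ((x * y : A) : G)⁻¹) * ((y * x : A) : G) := by
              simp only [Subgroup.coe_mul, Subgroup.coe_inv]; group
          _ = v := by rw [hcv v hv]; group)
      exact hx
    have := congrArg eA ((QuotientGroup.eq (s := O)).2 hmem)
    simp only [QuotientGroup.mk_mul, map_mul, hx, hy, MulEquiv.apply_symm_apply] at this
    exact this.symm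
  exact ⟨⟨V, hle, hnrm, hexp, hcomm, hcardV, hs, hcardA, hbig, t, t.2, ht2, hinv⟩⟩

theorem pcorr {A : Subgroup G} (P : Plane A) {p : G} (hp : p ∈ A) (hp2 : p * p = 1)
    (hpi : ∀ v ∈ P.V, p * v * p = v⁻¹) {g : G} (hg : g ∈ A) : g * p * g⁻¹ * p ∈ P.V := by
  have hpi' : ∀ v ∈ P.V, p * v * p⁻¹ = v⁻¹ := fun v hv => by
    rw [inv_eq_of_mul_eq_one_right hp2]; exact hpi v hv
  refine P.self _ (A.mul_mem (A.mul_mem (A.mul_mem hg hp) (A.inv_mem hg)) hp) fun w hw => ?_
  have hw' : g⁻¹ * w⁻¹ * g ∈ P.V := by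
    have := P.nrm g⁻¹ (A.inv_mem hg) _ (P.V.inv_mem hw)
    rwa [inv_inv] at this
  refine mul_inv_eq_iff_eq_mul.1 ?_
  calc g * p * g⁻¹ * p * w * (g * p * g⁻¹ * p)⁻¹ = g * (p * (g⁻¹ * (p * w * p⁻¹) * g) * p⁻¹) * g⁻¹ := by group
    _ = g * (g⁻¹ * w⁻¹ * g)⁻¹ * g⁻¹ := by rw [hpi' w hw, hpi' _ hw']
    _ = w := by group

/-- An element of the second plane centralised by an involution of the first parabolic. -/
theorem exists_fixed {A B : Subgroup G} (P : Plane A) (R : Plane B) {p : G} (hp2 : p * p = 1) (hpB : p ∈ B)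
    (hPR : ∃ x ∈ R.V, x ∉ P.V)
    (hinv : ∀ y ∈ R.V, p * y * p = y⁻¹ → y ∈ P.V) : ∃ a ∈ R.V, a ∉ P.V ∧ p * a * p = a := by
  obtain ⟨x, hx, hxP⟩ := hPR
  have hpi : p⁻¹ = p := inv_eq_of_mul_eq_one_right hp2
  have hw : p * x * p ∈ R.V := by
    have := R.nrm p hpB x hx
    rwa [hpi] at this
  have ttt : p * (p * x * p) * p = x := by
    calc _ = (p * p) * x * (p * p) := by group
      _ = x := by rw [hp2, one_mul, mul_one]
  have hdist : ∀ a b : G, p * (a * b) * p = (p * a * p) * (p * b * p) := fun a b => by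
    calc _ = p * a * (p * p) * b * p := by rw [hp2]; group
      _ = _ := by group
  refine ⟨x * (p * x * p), R.V.mul_mem hx hw, fun hmem => hxP ?_, by rw [hdist, ttt, R.comm _ hw x hx]⟩
  have hm : x * (p * x * p)⁻¹ ∈ P.V := by
    refine hinv _ (R.V.mul_mem hx (R.V.inv_mem hw)) ?_
    calc p * (x * (p * x * p)⁻¹) * p = p * x * p⁻¹ * x⁻¹ := by group
      _ = (p * x * p) * x⁻¹ := by rw [hpi]
      _ = _ := by rw [mul_inv_rev, inv_inv]
  have h2 := P.V.mul_mem hmem hm
  rw [mul_assoc x, ← mul_assoc _ x, R.comm _ hw x hx, mul_assoc x, mul_inv_cancel, mul_one] at h2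
  have h4 := P.V.mul_mem h2 h2
  rwa [show x * x * (x * x) = x ^ 3 * x by simp only [pow_succ, pow_zero, one_mul, mul_assoc], R.exp x hx,
    one_mul] at h4

/-- The generators of the amalgam exist. -/
theorem exists_amalgam (A B : Subgroup G)
    (hSylA : ¬ 3 ∣ ((A ⊓ B).subgroupOf A).index) (hSylB : ¬ 3 ∣ ((A ⊓ B).subgroupOf B).index)
    (hcore : ∀ N : Subgroup G, N ≤ A ⊓ B → (∀ a ∈ A, N.map (MulAut.conj a).toMonoidHom = N) →
      (∀ b ∈ B, N.map (MulAut.conj b).toMonoidHom = N) → N = ⊥)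
    (eA : A ⧸ Cfsg.pCore 3 A ≃* GL (Fin 2) (ZMod 3)) (eB : B ⧸ Cfsg.pCore 3 B ≃* GL (Fin 2) (ZMod 3))
    (hOA : IsMulCommutative (Cfsg.pCore 3 A) ∧ (∀ x ∈ Cfsg.pCore 3 A, x ^ 3 = 1) ∧ Nat.card (Cfsg.pCore 3 A) = 9 ∧
      Subgroup.centralizer ((Cfsg.pCore 3 A : Subgroup A) : Set A) = Cfsg.pCore 3 A)
    (hOB : IsMulCommutative (Cfsg.pCore 3 B) ∧ (∀ x ∈ Cfsg.pCore 3 B, x ^ 3 = 1) ∧ Nat.card (Cfsg.pCore 3 B) = 9 ∧
      Subgroup.centralizer ((Cfsg.pCore 3 B : Subgroup B) : Set B) = Cfsg.pCore 3 B)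
    (S : Sylow 3 ↥(A ⊓ B)) (Z : Subgroup G)
    (hZ : Z = ((S : Subgroup ↥(A ⊓ B)) ⊓ Subgroup.centralizer ((S : Subgroup ↥(A ⊓ B)) : Set ↥(A ⊓ B))).map (A ⊓ B).subtype)
    (hNZ : Subgroup.normalizer (Z : Set G) ≤ A ⊓ B) :
    Nonempty (Amalgam A B) := by
  classical
  haveI : Fact (Nat.Prime 3) := ⟨Nat.prime_three⟩
  obtain ⟨PA⟩ := exists_plane A eA hOA
  obtain ⟨PB⟩ := exists_plane B eB hOB
  set S0 : Subgroup G := (S : Subgroup ↥(A ⊓ B)).map (A ⊓ B).subtype with hS0
  have hS0le : S0 ≤ A ⊓ B := Subgroup.map_subtype_le _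
  -- the Sylow subgroup has order twenty-seven
  have hS27 : Nat.card S0 = 27 := by
    rw [hS0, Subgroup.card_map_of_injective (A ⊓ B).subtype_injective]
    obtain ⟨k, hk⟩ := IsPGroup.iff_card.1 S.isPGroup'
    have h1 := (S : Subgroup ↥(A ⊓ B)).card_mul_index
    have h2 := ((A ⊓ B).subgroupOf A).card_mul_index
    rw [Nat.card_congr (Subgroup.subgroupOfEquivOfLe (inf_le_left : A ⊓ B ≤ A)).toEquiv, ← h1, PA.cardA, hk] at h2
    have hcop : Nat.Coprime 27 ((S : Subgroup ↥(A ⊓ B)).index * ((A ⊓ B).subgroupOf A).index) :=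
      Nat.Coprime.pow_left 3 ((Nat.Coprime.mul_right ((Nat.prime_three.coprime_iff_not_dvd).2 (Sylow.not_dvd_index S))
        ((Nat.prime_three.coprime_iff_not_dvd).2 hSylA)) : Nat.Coprime 3 _)
    rw [mul_assoc] at h2
    have hd : 27 ∣ 3 ^ k := hcop.dvd_of_dvd_mul_right (by rw [h2]; norm_num)
    have hd' : 3 ^ k ∣ 432 := ⟨_, h2.symm⟩
    have hk3 : k ≤ 3 := by
      by_contra h4
      have : 3 ^ 4 ∣ 432 := (Nat.pow_dvd_pow 3 (by omega)).trans hd'
      norm_num at this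
    have hk3' : 3 ≤ k := (Nat.pow_dvd_pow_iff_le_right (by norm_num)).1 (show 3 ^ 3 ∣ 3 ^ k from hd)
    rw [hk, show k = 3 by omega]
    norm_num
  have hAS := PA.big S0 (hS0le.trans inf_le_left) hS27
  have hBS := PB.big S0 (hS0le.trans inf_le_right) hS27
  have hne : PA.V ≠ PB.V := fun e => by
    have hnorm : ∀ (C : Subgroup G) (P : Plane C), ∀ a ∈ C, P.V.map (MulAut.conj a).toMonoidHom = P.V := by
      intro C P a ha
      refine Subgroup.eq_of_le_of_card_ge ?_ (by rw [Subgroup.card_map_of_injective (MulEquiv.injective _)])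
      rintro _ ⟨v, hv, rfl⟩
      exact P.nrm a ha v hv
    have h := hcore PA.V (hAS.trans hS0le) (hnorm A PA) (e ▸ hnorm B PB)
    have := PA.cardV
    rw [h, Subgroup.card_bot] at this
    norm_num at this
  set W := PA.V ⊓ PB.V with hW
  have hsup : PA.V ⊔ PB.V = S0 := by
    refine Subgroup.eq_of_le_of_card_ge (sup_le hAS hBS) ?_
    rw [hS27]
    have hd := Subgroup.card_dvd_of_le (sup_le hAS hBS)
    rw [hS27] at hd
    obtain ⟨k, hk, hk'⟩ := (Nat.dvd_prime_pow Nat.prime_three).1 (show Nat.card ↥(PA.V ⊔ PB.V) ∣ 3 ^ 3 from hd)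
    have h9 : k ≠ 0 ∧ k ≠ 1 ∧ k ≠ 2 := by
      have hle := Subgroup.card_le_of_le (le_sup_left : PA.V ≤ PA.V ⊔ PB.V)
      rw [PA.cardV, hk'] at hle
      refine ⟨fun h => ?_, fun h => ?_, fun h => ?_⟩
      · rw [h] at hle; norm_num at hle
      · rw [h] at hle; norm_num at hle
      · subst h
        have e1 : PA.V = PA.V ⊔ PB.V := Subgroup.eq_of_le_of_card_ge le_sup_left (by rw [PA.cardV, hk']; norm_num)
        exact hne (Subgroup.eq_of_le_of_card_ge (e1 ▸ le_sup_right) (by rw [PA.cardV, PB.cardV])).symm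
    rw [hk', show k = 3 by omega]
    norm_num
  have hWcentral : ∀ w ∈ W, ∀ s ∈ S0, s * w = w * s := by
    intro w hw s hs
    have hle : PA.V ⊔ PB.V ≤ Subgroup.centralizer ({w} : Set G) := sup_le
      (fun v hv => Subgroup.mem_centralizer_singleton_iff.2 (PA.comm v hv w hw.1))
      (fun v hv => Subgroup.mem_centralizer_singleton_iff.2 (PB.comm v hv w hw.2))
    exact Subgroup.mem_centralizer_singleton_iff.1 (hle (hsup ▸ hs))
  have hZW : ∀ g, g ∈ Z ↔ g ∈ W := by
    intro g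
    rw [hZ]
    constructor
    · rintro ⟨s, ⟨hs, hsc⟩, rfl⟩
      have hc : ∀ v ∈ S0, (s : G) * v = v * (s : G) := by
        rintro _ ⟨y, hy, rfl⟩
        exact congrArg Subtype.val (Subgroup.mem_centralizer_iff.1 hsc y hy).symm
      exact ⟨PA.self _ s.2.1 fun v hv => hc v (hAS hv), PB.self _ s.2.2 fun v hv => hc v (hBS hv)⟩
    · intro hw
      refine ⟨⟨g, hS0le (hAS hw.1)⟩, ⟨?_, Subgroup.mem_centralizer_iff.2 fun y hy => Subtype.ext ?_⟩, rfl⟩
      · obtain ⟨y, hy, e⟩ := hAS hw.1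
        exact (Subtype.ext e : y = ⟨g, _⟩) ▸ hy
      · exact hWcentral g hw _ ⟨y, hy, rfl⟩
  have hnormW : ∀ g : G, (∀ w ∈ W, g * w * g⁻¹ ∈ W) → g ∈ A ⊓ B := by
    intro g hg
    refine hNZ ?_
    rw [Subgroup.mem_normalizer_iff_map_conj_eq]
    refine Subgroup.eq_of_le_of_card_ge ?_ (by rw [Subgroup.card_map_of_injective (MulEquiv.injective _)])
    rintro _ ⟨w, hw, rfl⟩
    exact (hZW _).2 (hg w ((hZW _).1 hw))
  have hWne : W ≠ ⊥ := by
    intro hb
    let f : PA.V × PB.V → S0 := fun v => ⟨(v.1 : G) * v.2, S0.mul_mem (hAS v.1.2) (hBS v.2.2)⟩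
    have hf : Function.Injective f := by
      intro v v' e
      have e' : (v.1 : G) * v.2 = (v'.1 : G) * v'.2 := congrArg Subtype.val e
      have hm : (v'.1 : G)⁻¹ * v.1 ∈ W := by
        refine ⟨PA.V.mul_mem (PA.V.inv_mem v'.1.2) v.1.2, ?_⟩
        rw [show (v'.1 : G)⁻¹ * v.1 = (v'.2 : G) * (v.2 : G)⁻¹ by
          rw [eq_mul_inv_iff_mul_eq, mul_assoc, e', inv_mul_cancel_left]]
        exact PB.V.mul_mem v'.2.2 (PB.V.inv_mem v.2.2)
      rw [hb, Subgroup.mem_bot, inv_mul_eq_one] at hm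
      exact Prod.ext (Subtype.ext hm.symm) (Subtype.ext (by rw [hm] at e'; exact mul_left_cancel e'))
    have := Nat.card_le_card_of_injective f hf
    rw [Nat.card_prod, PA.cardV, PB.cardV, hS27] at this
    norm_num at this
  have hpow : ∀ {P : Subgroup G} (v : G), v ∈ P → v ^ 3 = 1 → v⁻¹ = v * v := fun {P} v _ h =>
    inv_eq_of_mul_eq_one_right (by rw [← h]; simp only [pow_succ, pow_zero, one_mul, mul_assoc])
  -- the two involutions
  obtain ⟨p, hpA, hp2, hpi⟩ := PA.invol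
  have hpinv : p⁻¹ = p := inv_eq_of_mul_eq_one_right hp2
  have hpAB : p ∈ A ⊓ B := hnormW p fun w hw => by rw [hpinv, hpi w hw.1]; exact W.inv_mem hw
  obtain ⟨q0, hq0B, hq02, hq0i⟩ := PB.invol
  have hq0inv : q0⁻¹ = q0 := inv_eq_of_mul_eq_one_right hq02
  have hinvW : ∀ y ∈ PB.V, p * y * p = y⁻¹ → y ∈ PA.V := by
    intro y hy hyp
    have h := pcorr PA hpA hp2 hpi (hS0le (hBS hy)).1
    have hy' : p * y⁻¹ * p = y := by
      calc p * y⁻¹ * p = (p⁻¹ * y * p⁻¹)⁻¹ := by group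
        _ = y := by rw [hpinv, hyp, inv_inv]
    rw [mul_assoc y, mul_assoc y, hy'] at h
    have h4 := PA.V.mul_mem h h
    rwa [show y * y * (y * y) = y ^ 3 * y by simp only [pow_succ, pow_zero, one_mul, mul_assoc], PB.exp y hy,
      one_mul] at h4
  obtain ⟨v, hv⟩ : ∃ v, v = p * q0 * p⁻¹ * q0 := ⟨_, rfl⟩
  have hvV : v ∈ PB.V := hv ▸ pcorr PB hq0B hq02 hq0i hpAB.2
  have hpv : p * v * p = v⁻¹ := by
    rw [hv, hpinv]
    calc p * (p * q0 * p * q0) * p = (p * p) * q0 * p * q0 * p := by group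
      _ = q0⁻¹ * p⁻¹ * q0⁻¹ * p⁻¹ := by rw [hp2, one_mul, hpinv, hq0inv]
      _ = _ := by group
  have hvW : v ∈ W := ⟨hinvW v hvV hpv, hvV⟩
  obtain ⟨q, hq⟩ : ∃ q, q = v⁻¹ * q0 := ⟨_, rfl⟩
  have hqi : ∀ y ∈ PB.V, q * y * q⁻¹ = y⁻¹ := fun y hy => by
    rw [hq, mul_inv_rev, inv_inv]
    calc v⁻¹ * q0 * y * (q0⁻¹ * v) = v⁻¹ * (q0 * y * q0⁻¹) * v := by group
      _ = v⁻¹ * y⁻¹ * v := by rw [hq0inv, hq0i y hy]
      _ = _ := by rw [mul_assoc, PB.comm _ (PB.V.inv_mem hy) _ hvV, inv_mul_cancel_left]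
  have hq2 : q * q = 1 := by
    rw [hq]
    calc v⁻¹ * q0 * (v⁻¹ * q0) = v⁻¹ * (q0 * v⁻¹ * q0) := by group
      _ = 1 := by rw [hq0i _ (PB.V.inv_mem hvV), inv_inv, inv_mul_cancel]
  have hqinv : q⁻¹ = q := inv_eq_of_mul_eq_one_right hq2
  have hqAB : q ∈ A ⊓ B := hnormW q fun w hw => by rw [hqi w hw.2]; exact W.inv_mem hw
  have hqi' : ∀ y ∈ PB.V, q * y * q = y⁻¹ := fun y hy => by
    have := hqi y hy
    rwa [hqinv] at this
  have hpq : p * q = q * p := by
    have h1 : p * q0 * p = v * q0 := by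
      rw [hv, mul_assoc _ q0 q0, hq02, mul_one, hpinv]
    have h2 : p * q * p = q := by
      rw [hq]
      calc p * (v⁻¹ * q0) * p = (p * v⁻¹ * p) * (p * q0 * p) := by
            calc _ = p * v⁻¹ * (p * p) * q0 * p := by rw [hp2]; group
              _ = _ := by group
        _ = v * (v * q0) := by
            rw [h1]
            congr 1
            calc p * v⁻¹ * p = (p⁻¹ * v * p⁻¹)⁻¹ := by group
              _ = v := by rw [hpinv, hpv, inv_inv]
        _ = _ := by rw [← mul_assoc, ← hpow v hvV (PB.exp v hvV)]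
    calc p * q = p * q * (p * p) := by rw [hp2, mul_one]
      _ = (p * q * p) * p := by group
      _ = q * p := by rw [h2]
  have hinvW' : ∀ y ∈ PA.V, q * y * q = y⁻¹ → y ∈ PB.V := by
    intro y hy hyp
    have h := pcorr PB hqAB.2 hq2 hqi' (hS0le (hAS hy)).2
    have hy' : q * y⁻¹ * q = y := by
      calc q * y⁻¹ * q = (q⁻¹ * y * q⁻¹)⁻¹ := by group
        _ = y := by rw [hqinv, hyp, inv_inv]
    rw [mul_assoc y, mul_assoc y, hy'] at h
    have h4 := PB.V.mul_mem h h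
    rwa [show y * y * (y * y) = y ^ 3 * y by simp only [pow_succ, pow_zero, one_mul, mul_assoc], PA.exp y hy,
      one_mul] at h4
  have hex : ∀ (V V' : Subgroup G), Nat.card V = 9 → Nat.card V' = 9 → V ≠ V' → ∃ x ∈ V, x ∉ V' := by
    intro V V' h h' hne'
    by_contra hcon
    push Not at hcon
    exact hne' (Subgroup.eq_of_le_of_card_ge hcon (by rw [h, h']))
  obtain ⟨a, haV, haA, hpa⟩ := exists_fixed PA PB hp2 hpAB.2 (hex _ _ PB.cardV PA.cardV hne.symm) hinvW
  obtain ⟨b, hbV, hbB, hqb⟩ := exists_fixed PB PA hq2 hqAB.1 (hex _ _ PA.cardV PB.cardV hne) hinvW'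
  obtain ⟨c, hc⟩ : ∃ c, c = a⁻¹ * b⁻¹ * a * b := ⟨_, rfl⟩
  have haAB : a ∈ A ⊓ B := hS0le (hBS haV)
  have hbAB : b ∈ A ⊓ B := hS0le (hAS hbV)
  have hcW : c ∈ W := by
    refine ⟨?_, ?_⟩
    · have h := PA.nrm a⁻¹ (A.inv_mem haAB.1) _ (PA.V.inv_mem hbV)
      rw [inv_inv] at h
      rw [hc]
      exact PA.V.mul_mem h hbV
    · have h := PB.nrm b⁻¹ (B.inv_mem hbAB.2) a haV
      rw [inv_inv] at h
      rw [hc, mul_assoc (a⁻¹ * b⁻¹), mul_assoc a⁻¹]
      exact PB.V.mul_mem (PB.V.inv_mem haV) (by rwa [← mul_assoc])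
  have hW3 : Nat.card W = 3 := by
    refine ((Nat.dvd_prime Nat.prime_three).1 (small_cases inf_le_left PA.cardV fun e => ?_)).resolve_left
      fun h => hWne (Subgroup.card_eq_one.1 h)
    exact hne (Subgroup.eq_of_le_of_card_ge (e ▸ (inf_le_right : W ≤ PB.V)) (by rw [PA.cardV, PB.cardV]))
  have hc1 : c ≠ 1 := by
    intro e
    have hcom : a * b = b * a := by
      calc a * b = b * a * (a⁻¹ * b⁻¹ * a * b) := by group
        _ = b * a := by rw [← hc, e, mul_one]
    refine haA (PA.self a haAB.1 ?_)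
    set L := PA.V ⊓ Subgroup.centralizer ({a} : Set G) with hL
    have hbL : b ∈ L := ⟨hbV, Subgroup.mem_centralizer_singleton_iff.2 hcom.symm⟩
    have hWL : W ≤ L := fun w hw => ⟨hw.1, Subgroup.mem_centralizer_singleton_iff.2 (PB.comm w hw.2 a haV)⟩
    have hLV : L = PA.V := by
      by_contra hne'
      have h3 := small_cases inf_le_left PA.cardV hne'
      have hWLe : W = L := Subgroup.eq_of_le_of_card_ge hWL (by rw [hW3]; exact Nat.le_of_dvd (by norm_num) h3)
      exact hbB (hWLe ▸ hbL : b ∈ W).2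
    intro w hw
    exact (Subgroup.mem_centralizer_singleton_iff.1 (hLV ▸ hw : w ∈ L).2).symm
  have hab : a * b = b * a * c := by rw [hc]; group
  have hac : a * c = c * a := PB.comm a haV c hcW.2
  have hbc : b * c = c * b := PA.comm b hbV c hcW.1
  have hbz : ∀ i : ℕ, b ≠ c ^ i := fun i e => hbB (e ▸ (W.pow_mem hcW i)).2
  have haz : ∀ i : ℕ, a ≠ (c⁻¹) ^ i := fun i e => haA (e ▸ (W.pow_mem (W.inv_mem hcW) i)).1
  let HA : Half A :=
    { V := PA.V, le := PA.le, nrm := PA.nrm, exp := PA.exp, comm := PA.comm, cardV := PA.cardV, self := PA.self,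
      cardA := PA.cardA, x := b, z := c, u := a, p := p, q := q, xV := hbV, zV := hcW.1, uA := haAB.1, pA := hpA,
      qA := hqAB.1, zne := hc1, xz := hbz, pinv := hpi, p2 := hp2, q2 := hq2, pq := hpq,
      pu := by
        calc p * a = p * a * (p * p) := by rw [hp2, mul_one]
          _ = (p * a * p) * p := by group
          _ = _ := by rw [hpa]
      qx := hqb, qz := hqi' c hcW.2, uz := by rw [hac, mul_inv_cancel_right],
      ux := by rw [hab, mul_assoc (b * a), mul_assoc b, ← mul_assoc a, hac, mul_inv_cancel_right] }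
  let HB : Half B :=
    { V := PB.V, le := PB.le, nrm := PB.nrm, exp := PB.exp, comm := PB.comm, cardV := PB.cardV, self := PB.self,
      cardA := PB.cardA, x := a, z := c⁻¹, u := b, p := q, q := p, xV := haV, zV := PB.V.inv_mem hcW.2,
      uA := hbAB.2, pA := hqAB.2, qA := hpAB.2, zne := inv_ne_one.2 hc1, xz := haz, pinv := hqi', p2 := hq2,
      q2 := hp2, pq := hpq.symm,
      pu := by
        calc q * b = q * b * (q * q) := by rw [hq2, mul_one]
          _ = (q * b * q) * q := by group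
          _ = _ := by rw [hqb]
      qx := hpa, qz := hpi _ (PA.V.inv_mem hcW.1),
      uz := by rw [(show Commute b c from hbc).inv_right.eq, mul_inv_cancel_right],
      ux := by
        have h2 : b * a = a * b * c⁻¹ := by rw [hab]; group
        rw [h2, mul_assoc a, (show Commute b c from hbc).inv_right.eq, mul_assoc a, mul_inv_cancel_right] }
  obtain ⟨d, hd⟩ := HA.exists_opp
  obtain ⟨e, he⟩ := HB.exists_opp
  obtain ⟨dcube, dpd, dqd, dxd, ddz, dbraid, dsq, dgen⟩ := hd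
  obtain ⟨ecube, eqe, epe, exe, ecz, ebraid, esq, egen⟩ := he
  let X : Gens G := ⟨a, b, c, d, e, p, q⟩
  have hrels : X.Rels :=
    { a3 := PB.exp a haV
      b3 := PA.exp b hbV
      c3 := PA.exp c hcW.1
      d3 := dcube
      e3 := ecube
      p2 := (pow_two p).trans hp2
      q2 := (pow_two q).trans hq2
      pq := hpq
      ab := hc.symm
      ac := hac
      bc := hbc
      pa := hpa
      pb := hpi b hbV
      pc := hpi c hcW.1
      pd := dpd
      pe := epe
      qa := hqi' a haV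
      qb := hqb
      qc := hqi' c hcW.2
      qd := dqd
      qe := eqe
      bd := dxd
      dc := ddz
      adBraid := dbraid
      adSq := dsq
      ea := exe.symm
      ce := by
        have h : e⁻¹ * c⁻¹⁻¹ * e * c⁻¹ = a := ecz
        rw [inv_inv] at h
        have h' : e⁻¹ * c * e = a * c := by rw [← h]; group
        calc c⁻¹ * e⁻¹ * c * e = c⁻¹ * (e⁻¹ * c * e) := by group
          _ = c⁻¹ * (c * a) := by rw [h', hac]
          _ = a := inv_mul_cancel_left c a
      beBraid := ebraid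
      beSq := esq }
  refine ⟨{ X := X, rels := hrels, cne := hc1, parA_eq := dgen, parB_eq := ?_, cardA := PA.cardA, centCR := ?_ }⟩
  · refine le_antisymm ?_ ?_
    · refine (Subgroup.closure_le _).2 ?_
      have hz : c ∈ B := (hS0le (hAS hcW.1)).2
      rintro y (rfl | rfl | rfl | rfl | rfl | rfl)
      exacts [haAB.2, hbAB.2, hz, egen ▸ Subgroup.subset_closure (by simp [HB]), hpAB.2, hqAB.2]
    · rw [← egen, Subgroup.closure_le]
      rintro y (rfl | rfl | rfl | rfl | rfl | rfl)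
      · exact Subgroup.subset_closure (by simp [X, HB])
      · exact Subgroup.subset_closure (by simp [X, HB])
      · exact Subgroup.inv_mem _ (Subgroup.subset_closure (by simp [X]))
      · exact Subgroup.subset_closure (by simp [X])
      · exact Subgroup.subset_closure (by simp [X, HB])
      · exact Subgroup.subset_closure (by simp [X, HB])
  · have hr2 : (p * q) * (p * q) = 1 := by
      rw [mul_assoc p, ← mul_assoc q, ← hpq, mul_assoc p q, hq2, mul_one, hp2]
    have hrc : (p * q) * c = c * (p * q) := by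
      calc (p * q) * c = p * (q * c * q) * q⁻¹ := by group
        _ = (p * c⁻¹ * p) * (p⁻¹ * q⁻¹) := by rw [hqi' c hcW.2]; group
        _ = _ := by rw [hpi _ (PA.V.inv_mem hcW.1), inv_inv, hpinv, hqinv]
    have hrne : p * q ≠ 1 := fun h => by
      have h1 : q = p := by rw [← hpinv]; exact eq_inv_of_mul_eq_one_right h
      have h2 := hqi' a haV
      rw [h1, hpa] at h2
      refine haA ?_
      have h3 : a = 1 := by
        calc a = a ^ 3 * (a * a)⁻¹ := by group
          _ = 1 := by rw [PB.exp a haV, one_mul, inv_eq_one, ← mul_eq_one_iff_eq_inv.2 h2]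
      rw [h3]
      exact PA.V.one_mem
    have hzp : Subgroup.zpowers c = W := Subgroup.eq_of_le_of_card_ge (Subgroup.zpowers_le.2 hcW) (by
      rw [hW3, Nat.card_zpowers, orderOf_eq_prime (PA.exp c hcW.1) hc1])
    let f : Fin 3 × Fin 2 → ↥(Subgroup.centralizer ({c} : Set G) ⊓ Subgroup.centralizer ({p * q} : Set G)) :=
      fun w => ⟨c ^ w.1.val * (p * q) ^ w.2.val,
        Subgroup.mem_centralizer_singleton_iff.2
          (((Commute.refl c).pow_left _).mul_left ((show Commute (p * q) c from hrc).pow_left _)),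
        Subgroup.mem_centralizer_singleton_iff.2
          (((show Commute c (p * q) from hrc.symm).pow_left _).mul_left ((Commute.refl (p * q)).pow_left _))⟩
    have hb : Function.Bijective f := by
      constructor
      · intro w w' h
        have h' : c ^ w.1.val * (p * q) ^ w.2.val = c ^ w'.1.val * (p * q) ^ w'.2.val := congrArg Subtype.val h
        have hj : w.2 = w'.2 := by
          by_contra hne'
          have hm : (p * q) ∈ Subgroup.zpowers c := by
            have hz : ∀ n : ℕ, c ^ n ∈ Subgroup.zpowers c := fun n => Subgroup.pow_mem _ (Subgroup.mem_zpowers c) n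
            rcases w with ⟨i, j⟩
            rcases w' with ⟨i', j'⟩
            fin_cases j <;> fin_cases j' <;> first | exact absurd rfl hne' | skip
            · simp only [pow_zero, mul_one, pow_one] at h'
              rw [show p * q = (c ^ i'.val)⁻¹ * c ^ i.val by rw [h', inv_mul_cancel_left]]
              exact Subgroup.mul_mem _ (Subgroup.inv_mem _ (hz _)) (hz _)
            · simp only [pow_zero, mul_one, pow_one] at h'
              rw [show p * q = (c ^ i.val)⁻¹ * c ^ i'.val by rw [← h', inv_mul_cancel_left]]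
              exact Subgroup.mul_mem _ (Subgroup.inv_mem _ (hz _)) (hz _)
          have h3 : (p * q) ^ 3 = 1 := by
            obtain ⟨k, hk⟩ := Subgroup.mem_zpowers_iff.1 hm
            rw [← hk, ← zpow_natCast, ← zpow_mul, mul_comm, zpow_mul, zpow_natCast, PA.exp c hcW.1, one_zpow]
          exact hrne (by rwa [pow_succ, pow_two, hr2, one_mul] at h3)
        refine Prod.ext ?_ hj
        rw [hj] at h'
        have h1 := pow_injOn_Iio_orderOf (x := c)
          (show w.1.val ∈ Set.Iio (orderOf c) by rw [orderOf_eq_prime (PA.exp c hcW.1) hc1]; exact w.1.2)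
          (show w'.1.val ∈ Set.Iio (orderOf c) by rw [orderOf_eq_prime (PA.exp c hcW.1) hc1]; exact w'.1.2)
          (mul_right_cancel h')
        exact Fin.ext h1
      · rintro ⟨g, hg1, hg2⟩
        have hgc := Subgroup.mem_centralizer_singleton_iff.1 hg1
        have hgAB : g ∈ A ⊓ B := hnormW g fun w hw => by
          rw [← hzp] at hw
          obtain ⟨k, rfl⟩ := Subgroup.mem_zpowers_iff.1 hw
          rw [((show Commute g c from hgc).zpow_right k).eq, mul_inv_cancel_right]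
          exact W.zpow_mem hcW k
        obtain ⟨i, j, e'⟩ := HA.cent_form hgAB.1 hgc (Subgroup.mem_centralizer_singleton_iff.1 hg2)
        exact ⟨(i, j), Subtype.ext e'.symm⟩
    show Nat.card ↥(Subgroup.centralizer ({c} : Set G) ⊓ Subgroup.centralizer ({p * q} : Set G)) = 6
    rw [← Nat.card_eq_of_bijective f hb]
    simp [Nat.card_eq_fintype_card]

end Cfsg.Agent.MTwelveAmal
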