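import Cfsg.Agent.Lib.Spor.MTwelveAmal.Words

/-!
The relator words of the certificates hold in every group with amalgam generators.
-/

set_option autoImplicit false
set_option linter.unusedSimpArgs false

namespace Cfsg.Agent.MTwelveAmal

variable {G : Type*} [Group G]

theorem comm_word {x y : G} (e : x * y = y * x) : x⁻¹ * y⁻¹ * x * y = 1 := by
  rw [mul_assoc, e]; group

theorem inv_word {x y : G} (e : x * y * x = y⁻¹) : x * y * x * y = 1 := by
  rw [e, inv_mul_cancel]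

theorem braid_word {x y : G} (e : x * y⁻¹ * x = y⁻¹ * x * y⁻¹) : x * y⁻¹ * x * y * x⁻¹ * y = 1 := by
  rw [e]; group

theorem sq_word {x y z : G} (e : x * y⁻¹ * x * (x * y⁻¹ * x) = z) (hz : z ^ 2 = 1) :
    x * y⁻¹ * x * x * y⁻¹ * x * z = 1 := by
  rw [← hz, pow_two]; nth_rw 2 [← e]; group

theorem Gens.Rels.pq_sq {X : Gens G} (h : X.Rels) : X.p * X.q * X.p * X.q = 1 := by
  rw [h.pq, mul_assoc X.q, ← pow_two, h.p2, mul_one, ← pow_two, h.q2]

/-- the letters -/
def gl (X : Gens G) : ℕ → G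
  | 0 => X.a
  | 1 => X.a⁻¹
  | 2 => X.b
  | 3 => X.b⁻¹
  | 4 => X.c
  | 5 => X.c⁻¹
  | 6 => X.p
  | 7 => X.q
  | 8 => X.n
  | 9 => X.n⁻¹
  | 10 => X.m
  | 11 => X.m⁻¹
  | _ => 1

/-- value of a word -/
def wev (X : Gens G) (l : List ℕ) : G := (l.map (gl X)).prod

variable {X : Gens G} (h : X.Rels)
include h

theorem w0 : wev X [0, 0, 0] = 1 := by
  have e : X.a * X.a * X.a = 1 := by rw [← h.a3, pow_succ, pow_two]
  rw [← e]; simp only [wev, gl, List.map_cons, List.map_nil, List.prod_cons, List.prod_nil, Gens.n, Gens.m]; group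

theorem w1 : wev X [2, 2, 2] = 1 := by
  have e : X.b * X.b * X.b = 1 := by rw [← h.b3, pow_succ, pow_two]
  rw [← e]; simp only [wev, gl, List.map_cons, List.map_nil, List.prod_cons, List.prod_nil, Gens.n, Gens.m]; group

theorem w2 : wev X [4, 4, 4] = 1 := by
  have e : X.c * X.c * X.c = 1 := by rw [← h.c3, pow_succ, pow_two]
  rw [← e]; simp only [wev, gl, List.map_cons, List.map_nil, List.prod_cons, List.prod_nil, Gens.n, Gens.m]; group

theorem w3 : wev X [0, 9, 0, 0, 9, 0, 0, 9, 0] = 1 := by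
  have e : X.d * X.d * X.d = 1 := by rw [← h.d3, pow_succ, pow_two]
  rw [← e]; simp only [wev, gl, List.map_cons, List.map_nil, List.prod_cons, List.prod_nil, Gens.n, Gens.m]; group

theorem w4 : wev X [2, 11, 2, 2, 11, 2, 2, 11, 2] = 1 := by
  have e : X.e * X.e * X.e = 1 := by rw [← h.e3, pow_succ, pow_two]
  rw [← e]; simp only [wev, gl, List.map_cons, List.map_nil, List.prod_cons, List.prod_nil, Gens.n, Gens.m]; group

theorem w5 : wev X [6, 7, 6, 7] = 1 := by
  have e : X.p * X.q * X.p * X.q = 1 := h.pq_sq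
  rw [← e]; simp only [wev, gl, List.map_cons, List.map_nil, List.prod_cons, List.prod_nil, Gens.n, Gens.m]; group

theorem w6 : wev X [1, 3, 0, 2, 5] = 1 := by
  have e : X.a⁻¹ * X.b⁻¹ * X.a * X.b * X.c⁻¹ = 1 := mul_inv_eq_one.2 h.ab
  rw [← e]; simp only [wev, gl, List.map_cons, List.map_nil, List.prod_cons, List.prod_nil, Gens.n, Gens.m]; group

theorem w7 : wev X [1, 5, 0, 4] = 1 := by
  have e : X.a⁻¹ * X.c⁻¹ * X.a * X.c = 1 := comm_word h.ac
  rw [← e]; simp only [wev, gl, List.map_cons, List.map_nil, List.prod_cons, List.prod_nil, Gens.n, Gens.m]; group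

theorem w8 : wev X [3, 5, 2, 4] = 1 := by
  have e : X.b⁻¹ * X.c⁻¹ * X.b * X.c = 1 := comm_word h.bc
  rw [← e]; simp only [wev, gl, List.map_cons, List.map_nil, List.prod_cons, List.prod_nil, Gens.n, Gens.m]; group

theorem w9 : wev X [6, 0, 6, 1] = 1 := by
  have e : X.p * X.a * X.p * X.a⁻¹ = 1 := mul_inv_eq_one.2 h.pa
  rw [← e]; simp only [wev, gl, List.map_cons, List.map_nil, List.prod_cons, List.prod_nil, Gens.n, Gens.m]; group

theorem w10 : wev X [7, 0, 7, 0] = 1 := by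
  have e : X.q * X.a * X.q * X.a = 1 := inv_word h.qa
  rw [← e]; simp only [wev, gl, List.map_cons, List.map_nil, List.prod_cons, List.prod_nil, Gens.n, Gens.m]; group

theorem w11 : wev X [6, 2, 6, 2] = 1 := by
  have e : X.p * X.b * X.p * X.b = 1 := inv_word h.pb
  rw [← e]; simp only [wev, gl, List.map_cons, List.map_nil, List.prod_cons, List.prod_nil, Gens.n, Gens.m]; group

theorem w12 : wev X [7, 2, 7, 3] = 1 := by
  have e : X.q * X.b * X.q * X.b⁻¹ = 1 := mul_inv_eq_one.2 h.qb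
  rw [← e]; simp only [wev, gl, List.map_cons, List.map_nil, List.prod_cons, List.prod_nil, Gens.n, Gens.m]; group

theorem w13 : wev X [6, 4, 6, 4] = 1 := by
  have e : X.p * X.c * X.p * X.c = 1 := inv_word h.pc
  rw [← e]; simp only [wev, gl, List.map_cons, List.map_nil, List.prod_cons, List.prod_nil, Gens.n, Gens.m]; group

theorem w14 : wev X [7, 4, 7, 4] = 1 := by
  have e : X.q * X.c * X.q * X.c = 1 := inv_word h.qc
  rw [← e]; simp only [wev, gl, List.map_cons, List.map_nil, List.prod_cons, List.prod_nil, Gens.n, Gens.m]; group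

theorem w15 : wev X [6, 0, 9, 0, 6, 1, 8, 1] = 1 := by
  have e : X.p * X.d * X.p * X.d⁻¹ = 1 := mul_inv_eq_one.2 h.pd
  rw [← e]; simp only [wev, gl, List.map_cons, List.map_nil, List.prod_cons, List.prod_nil, Gens.n, Gens.m]; group

theorem w16 : wev X [7, 0, 9, 0, 7, 0, 9, 0] = 1 := by
  have e : X.q * X.d * X.q * X.d = 1 := inv_word h.qd
  rw [← e]; simp only [wev, gl, List.map_cons, List.map_nil, List.prod_cons, List.prod_nil, Gens.n, Gens.m]; group

theorem w17 : wev X [6, 2, 11, 2, 6, 2, 11, 2] = 1 := by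
  have e : X.p * X.e * X.p * X.e = 1 := inv_word h.pe
  rw [← e]; simp only [wev, gl, List.map_cons, List.map_nil, List.prod_cons, List.prod_nil, Gens.n, Gens.m]; group

theorem w18 : wev X [7, 2, 11, 2, 7, 3, 10, 3] = 1 := by
  have e : X.q * X.e * X.q * X.e⁻¹ = 1 := mul_inv_eq_one.2 h.qe
  rw [← e]; simp only [wev, gl, List.map_cons, List.map_nil, List.prod_cons, List.prod_nil, Gens.n, Gens.m]; group

theorem w19 : wev X [8, 0, 9, 0, 9, 0] = 1 := by
  have e : X.a * X.d⁻¹ * X.a * X.d * X.a⁻¹ * X.d = 1 := braid_word h.adBraid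
  rw [← e]; simp only [wev, gl, List.map_cons, List.map_nil, List.prod_cons, List.prod_nil, Gens.n, Gens.m]; group

theorem w20 : wev X [8, 8, 6] = 1 := by
  have e : X.a * X.d⁻¹ * X.a * X.a * X.d⁻¹ * X.a * X.p = 1 := sq_word h.adSq h.p2
  rw [← e]; simp only [wev, gl, List.map_cons, List.map_nil, List.prod_cons, List.prod_nil, Gens.n, Gens.m]; group

theorem w21 : wev X [1, 8, 1, 3, 0, 9, 0, 2] = 1 := by
  have e : X.d⁻¹ * X.b⁻¹ * X.d * X.b = 1 := comm_word h.bd.symm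
  rw [← e]; simp only [wev, gl, List.map_cons, List.map_nil, List.prod_cons, List.prod_nil, Gens.n, Gens.m]; group

theorem w22 : wev X [1, 8, 1, 5, 0, 9, 0, 4, 3] = 1 := by
  have e : X.d⁻¹ * X.c⁻¹ * X.d * X.c * X.b⁻¹ = 1 := mul_inv_eq_one.2 h.dc
  rw [← e]; simp only [wev, gl, List.map_cons, List.map_nil, List.prod_cons, List.prod_nil, Gens.n, Gens.m]; group

theorem w23 : wev X [10, 2, 11, 2, 11, 2] = 1 := by
  have e : X.b * X.e⁻¹ * X.b * X.e * X.b⁻¹ * X.e = 1 := braid_word h.beBraid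
  rw [← e]; simp only [wev, gl, List.map_cons, List.map_nil, List.prod_cons, List.prod_nil, Gens.n, Gens.m]; group

theorem w24 : wev X [10, 10, 7] = 1 := by
  have e : X.b * X.e⁻¹ * X.b * X.b * X.e⁻¹ * X.b * X.q = 1 := sq_word h.beSq h.q2
  rw [← e]; simp only [wev, gl, List.map_cons, List.map_nil, List.prod_cons, List.prod_nil, Gens.n, Gens.m]; group

theorem w25 : wev X [3, 10, 3, 1, 2, 11, 2, 0] = 1 := by
  have e : X.e⁻¹ * X.a⁻¹ * X.e * X.a = 1 := comm_word h.ea
  rw [← e]; simp only [wev, gl, List.map_cons, List.map_nil, List.prod_cons, List.prod_nil, Gens.n, Gens.m]; group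

theorem w26 : wev X [5, 3, 10, 3, 4, 2, 11, 2, 1] = 1 := by
  have e : X.c⁻¹ * X.e⁻¹ * X.c * X.e * X.a⁻¹ = 1 := mul_inv_eq_one.2 h.ce
  rw [← e]; simp only [wev, gl, List.map_cons, List.map_nil, List.prod_cons, List.prod_nil, Gens.n, Gens.m]; group

theorem x1_one (e : (X.a * X.n * X.k) ^ 3 = 1) : wev X [0, 8, 11, 9, 10, 8, 10, 0, 8, 11, 9, 10, 8, 10, 0, 8, 11, 9, 10, 8, 10] = 1 := by
  rw [← e]; simp only [wev, gl, List.map_cons, List.map_nil, List.prod_cons, List.prod_nil, Gens.n, Gens.m, Gens.g, Gens.k, pow_succ, pow_zero, one_mul]; group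

theorem x1_p (e : (X.a * X.n * X.k) ^ 3 = X.p) : wev X [0, 8, 11, 9, 10, 8, 10, 0, 8, 11, 9, 10, 8, 10, 0, 8, 11, 9, 10, 8, 10, 6] = 1 := by
  have e' : (X.a * X.n * X.k) ^ 3 * X.p = 1 := by rw [e, ← pow_two, h.p2]
  rw [← e']; simp only [wev, gl, List.map_cons, List.map_nil, List.prod_cons, List.prod_nil, Gens.n, Gens.m, Gens.g, Gens.k, pow_succ, pow_zero, one_mul]; group

theorem x2_one (e : (X.a⁻¹ * X.k * X.n) ^ 3 = 1) : wev X [1, 11, 9, 10, 8, 10, 8, 1, 11, 9, 10, 8, 10, 8, 1, 11, 9, 10, 8, 10, 8] = 1 := by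
  rw [← e]; simp only [wev, gl, List.map_cons, List.map_nil, List.prod_cons, List.prod_nil, Gens.n, Gens.m, Gens.g, Gens.k, pow_succ, pow_zero, one_mul]; group

theorem x2_p (e : (X.a⁻¹ * X.k * X.n) ^ 3 = X.p) : wev X [1, 11, 9, 10, 8, 10, 8, 1, 11, 9, 10, 8, 10, 8, 1, 11, 9, 10, 8, 10, 8, 6] = 1 := by
  have e' : (X.a⁻¹ * X.k * X.n) ^ 3 * X.p = 1 := by rw [e, ← pow_two, h.p2]
  rw [← e']; simp only [wev, gl, List.map_cons, List.map_nil, List.prod_cons, List.prod_nil, Gens.n, Gens.m, Gens.g, Gens.k, pow_succ, pow_zero, one_mul]; group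

end Cfsg.Agent.MTwelveAmal
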