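import Cfsg.Agent.Lib.Spor.MTwelveAmal.Gens

/-!
Identities in the amalgam: conjugation by the Weyl elements.
-/

set_option autoImplicit false

namespace Cfsg.Agent.MTwelveAmal

namespace Gens

variable {G : Type*} [Group G]

/-- Weyl element of the first parabolic -/
def n (X : Gens G) : G := X.a * X.d⁻¹ * X.a
/-- Weyl element of the second parabolic -/
def m (X : Gens G) : G := X.b * X.e⁻¹ * X.b
/-- product of the two Weyl elements -/
def g (X : Gens G) : G := X.n * X.m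
/-- element of order four in the centraliser of `p` on the far side -/
def k (X : Gens G) : G := X.g⁻¹ * X.m * X.g

/-- conjugation -/
def cj (g : G) : G →* G := (MulAut.conj g⁻¹).toMonoidHom

theorem cj_apply (g x : G) : cj g x = g⁻¹ * x * g := by simp [cj, MulAut.conj_apply]

theorem cj_mul (g h x : G) : cj (g * h) x = cj h (cj g x) := by simp only [cj_apply]; group

theorem cj_of_comm {g x : G} (h : g * x = x * g) : cj g x = x := by
  rw [cj_apply, mul_assoc, ← h, ← mul_assoc, inv_mul_cancel, one_mul]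

variable {X : Gens G} (h : X.Rels)
include h

theorem cj_a_b : cj X.a X.b = X.b * X.c⁻¹ := by
  rw [cj_apply, ← h.ab]; group

theorem cj_d_c : cj X.d X.c = X.c * X.b⁻¹ := by
  rw [cj_apply]
  have := congrArg (·⁻¹) h.dc
  simp only [mul_inv_rev, inv_inv] at this
  calc X.d⁻¹ * X.c * X.d = X.c * (X.c⁻¹ * (X.d⁻¹ * X.c * X.d)) := by group
    _ = X.c * X.b⁻¹ := by rw [← this]; group

theorem cj_dinv_c : cj X.d⁻¹ X.c = X.c * X.b := by
  have h1 : cj X.d X.b = X.b := cj_of_comm h.bd.symm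
  have h2 : cj X.d (X.c * X.b) = X.c := by rw [map_mul, cj_d_c h, h1]; group
  have h3 := congrArg (cj X.d⁻¹) h2
  rw [← cj_mul, mul_inv_cancel] at h3
  rw [← h3, cj_apply]; group

theorem cj_dinv_b : cj X.d⁻¹ X.b = X.b := by
  apply cj_of_comm
  calc X.d⁻¹ * X.b = X.d⁻¹ * (X.b * X.d) * X.d⁻¹ := by group
    _ = X.b * X.d⁻¹ := by rw [h.bd]; group

theorem cj_a_c : cj X.a X.c = X.c := cj_of_comm h.ac

theorem cj_n_c : cj X.n X.c = X.b := by
  rw [n, cj_mul, cj_mul, cj_a_c h, cj_dinv_c h, map_mul, cj_a_c h, cj_a_b h]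
  rw [← mul_assoc, ← h.bc]; group

theorem cj_n_b : cj X.n X.b = X.c⁻¹ := by
  rw [n, cj_mul, cj_mul, cj_a_b h, map_mul, map_inv, cj_dinv_b h, cj_dinv_c h, map_mul, map_inv, map_mul,
    cj_a_c h, cj_a_b h]
  group

theorem cj_b_a : cj X.b X.a = X.a * X.c := by
  rw [cj_apply, ← h.ab]; group

theorem cj_b_c : cj X.b X.c = X.c := cj_of_comm h.bc

theorem cj_e_c : cj X.e X.c = X.c * X.a := by
  rw [cj_apply, ← h.ce]; group

theorem cj_einv_a : cj X.e⁻¹ X.a = X.a := by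
  apply cj_of_comm
  calc X.e⁻¹ * X.a = X.e⁻¹ * (X.a * X.e) * X.e⁻¹ := by group
    _ = X.a * X.e⁻¹ := by rw [← h.ea]; group

theorem cj_einv_c : cj X.e⁻¹ X.c = X.c * X.a⁻¹ := by
  have h1 : cj X.e X.a = X.a := cj_of_comm h.ea
  have h2 : cj X.e (X.c * X.a⁻¹) = X.c := by rw [map_mul, map_inv, cj_e_c h, h1]; group
  have h3 := congrArg (cj X.e⁻¹) h2
  rw [← cj_mul, mul_inv_cancel] at h3
  rw [← h3, cj_apply]; group

theorem cj_m_c : cj X.m X.c = X.a⁻¹ := by
  rw [m, cj_mul, cj_mul, cj_b_c h, cj_einv_c h, map_mul, map_inv, cj_b_c h, cj_b_a h, mul_inv_rev]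
  group

theorem cj_g_b : cj X.g X.b = X.a := by
  rw [g, cj_mul, cj_n_b h, map_inv, cj_m_c h, inv_inv]

theorem p_inv : X.p⁻¹ = X.p := inv_eq_of_mul_eq_one_right (by rw [← pow_two]; exact h.p2)

theorem q_inv : X.q⁻¹ = X.q := inv_eq_of_mul_eq_one_right (by rw [← pow_two]; exact h.q2)

theorem cj_p_eq (x : G) : cj X.p x = X.p * x * X.p := by rw [cj_apply, p_inv h]

theorem cj_q_eq (x : G) : cj X.q x = X.q * x * X.q := by rw [cj_apply, q_inv h]

theorem comm_of_conj_p {x : G} (hx : X.p * x * X.p = x) : X.p * x = x * X.p := by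
  have : X.p * x * X.p * X.p⁻¹ = x * X.p⁻¹ := by rw [hx]
  rwa [mul_inv_cancel_right, p_inv h] at this

theorem comm_of_conj_q {x : G} (hx : X.q * x * X.q = x) : X.q * x = x * X.q := by
  have : X.q * x * X.q * X.q⁻¹ = x * X.q⁻¹ := by rw [hx]
  rwa [mul_inv_cancel_right, q_inv h] at this

theorem cj_p_n : cj X.p X.n = X.n := by
  simp only [n, map_mul, map_inv]
  simp only [cj_p_eq h, h.pa, h.pd]

theorem cj_q_m : cj X.q X.m = X.m := by
  simp only [m, map_mul, map_inv]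
  simp only [cj_q_eq h, h.qb, h.qe]

theorem n_sq : X.n * X.n = X.p := h.adSq

theorem m_sq : X.m * X.m = X.q := h.beSq

theorem cj_p_m : cj X.p X.m = X.m⁻¹ := by
  have e : X.b * X.e⁻¹ * X.b = X.e⁻¹ * X.b * X.e⁻¹ := h.beBraid
  simp only [m, map_mul, map_inv]
  simp only [cj_p_eq h, h.pb, h.pe, inv_inv, mul_inv_rev]
  group

theorem cj_q_n : cj X.q X.n = X.n⁻¹ := by
  simp only [n, map_mul, map_inv]
  simp only [cj_q_eq h, h.qa, h.qd, inv_inv, mul_inv_rev]
  group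

theorem cj_m_p : cj X.m X.p = X.p * X.q := by
  have h1 : X.m * X.p = X.p * X.m⁻¹ := by
    rw [← cj_p_m h, cj_p_eq h, ← mul_assoc, ← mul_assoc, ← pow_two, h.p2, one_mul]
  rw [cj_apply, mul_assoc, ← m_sq h, ← mul_assoc X.p]
  have h2 : X.m⁻¹ * X.p = X.p * X.m := by
    have := cj_p_m h
    rw [cj_p_eq h] at this
    rw [← this, mul_assoc, ← pow_two, h.p2, mul_one]
  rw [← mul_assoc, h2]

theorem cj_n_q : cj X.n X.q = X.q * X.p := by
  have h2 : X.n⁻¹ * X.q = X.q * X.n := by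
    have := cj_q_n h
    rw [cj_q_eq h] at this
    rw [← this, mul_assoc, ← pow_two, h.q2, mul_one]
  rw [cj_apply, h2, ← n_sq h, mul_assoc]

theorem cj_m_q : cj X.m X.q = X.q := by
  apply cj_of_comm
  rw [← m_sq h, mul_assoc]

theorem cj_n_p : cj X.n X.p = X.p := by
  apply cj_of_comm
  rw [← n_sq h, mul_assoc]

theorem cj_g_q : cj X.g X.q = X.p := by
  rw [g, cj_mul, cj_n_q h, map_mul, cj_m_q h, cj_m_p h, h.pq, ← mul_assoc, ← pow_two, h.q2, one_mul]

theorem cj_g_pq : cj X.g (X.p * X.q) = X.q := by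
  rw [map_mul, cj_g_q h, g, cj_mul, cj_n_p h, cj_m_p h, mul_assoc, ← h.pq, ← mul_assoc, ← pow_two, h.p2, one_mul]

theorem cj_pm_c : cj (X.p * X.m) X.c = X.a := by
  rw [cj_mul, cj_p_eq h, h.pc, map_inv, cj_m_c h, inv_inv]

theorem cj_pm_pq : cj (X.p * X.m) (X.p * X.q) = X.p := by
  rw [cj_mul, map_mul, cj_p_eq h, cj_p_eq h]
  rw [show X.p * X.p * X.p = X.p by rw [← pow_two, h.p2, one_mul]]
  rw [show X.p * X.q * X.p = X.q by rw [h.pq, mul_assoc, ← pow_two, h.p2, mul_one]]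
  rw [map_mul, cj_m_p h, cj_m_q h, mul_assoc, ← pow_two, h.q2, mul_one]

end Gens

end Cfsg.Agent.MTwelveAmal
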